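import Cfsg.Agent.Lib.PSLThree.Rep.Span

/-!
# Traces in a subfield give a realisation over it

* `realisableOver_of_trace`: an absolutely irreducible group over a finite field whose traces lie in a
  subfield can be written over that subfield (Galois descent).
* `trace_not_subfield`: the traces of a residual core lie in no proper subfield.
-/

set_option autoImplicit false

namespace Cfsg.Agent.PSLThree.Rep

open Matrix Finset
open Cfsg.Geo (matrixSet ActsAbsolutelyIrreducibly RealisableOver IsResidualCore)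

variable {F : Type*} [Field F] {ι : Type} [Fintype ι] [DecidableEq ι]

/-- The semilinear map of a matrix and a field endomorphism. -/
def semi (σ : F →+* F) (T : Matrix ι ι F) (v : ι → F) : ι → F := T *ᵥ (σ ∘ v)

omit [DecidableEq ι] in
theorem semi_add (σ : F →+* F) (T : Matrix ι ι F) (u v : ι → F) :
    semi σ T (u + v) = semi σ T u + semi σ T v := by
  rw [semi, semi, semi, ← mulVec_add]; congr 1; ext i; simp

omit [DecidableEq ι] in
theorem semi_smul (σ : F →+* F) (T : Matrix ι ι F) (c : F) (v : ι → F) :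
    semi σ T (c • v) = σ c • semi σ T v := by
  rw [semi, semi, ← mulVec_smul]; congr 1; ext i; simp

omit [DecidableEq ι] in
theorem semi_iter_add (σ : F →+* F) (T : Matrix ι ι F) : ∀ (k : ℕ) (u v : ι → F),
    (semi σ T)^[k] (u + v) = (semi σ T)^[k] u + (semi σ T)^[k] v
  | 0, _, _ => rfl
  | k + 1, u, v => by
    simp only [Function.iterate_succ_apply', semi_iter_add σ T k u v, semi_add]

omit [DecidableEq ι] in
theorem semi_iter_smul (σ : F →+* F) (T : Matrix ι ι F) : ∀ (k : ℕ) (c : F) (v : ι → F),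
    (semi σ T)^[k] (c • v) = σ^[k] c • (semi σ T)^[k] v
  | 0, _, _ => rfl
  | k + 1, c, v => by
    simp only [Function.iterate_succ_apply', semi_iter_smul σ T k c v, semi_smul]

/-- A semilinear map of finite order fixes a basis. -/
theorem span_fixed (σ : F →+* F) (T : Matrix ι ι F) {d : ℕ} (hd : 0 < d)
    (hS : ∀ v, (semi σ T)^[d] v = v)
    (hind : ∀ c : ℕ → F, (∀ a, ∑ i ∈ range d, c i * σ^[i] a = 0) → ∀ i < d, c i = 0) :
    Submodule.span F {v | semi σ T v = v} = ⊤ := by
  by_contra hne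
  obtain ⟨v₀, -, hv₀⟩ := SetLike.exists_of_lt (lt_top_iff_ne_top.2 hne)
  obtain ⟨φ, hφv, hφ⟩ := Submodule.exists_dual_map_eq_bot_of_notMem hv₀ inferInstance
  have hker : ∀ w, semi σ T w = w → φ w = 0 := fun w hw => by
    have hm : φ w ∈ (Submodule.span F {v | semi σ T v = v}).map φ :=
      Submodule.mem_map_of_mem (Submodule.subset_span hw)
    rwa [hφ, Submodule.mem_bot] at hm
  have h0 := hind (fun i => φ ((semi σ T)^[i] v₀)) fun a => by
    let S : (ι → F) →+ (ι → F) := AddMonoidHom.mk' (semi σ T) (semi_add σ T)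
    have hfix : semi σ T (∑ i ∈ range d, (semi σ T)^[i] (a • v₀)) = ∑ i ∈ range d, (semi σ T)^[i] (a • v₀) := by
      show S _ = _
      rw [map_sum]
      show ∑ i ∈ range d, semi σ T ((semi σ T)^[i] (a • v₀)) = _
      simp only [← Function.iterate_succ_apply']
      have h1 := Finset.sum_range_succ' (fun i => (semi σ T)^[i] (a • v₀)) d
      have h2 := Finset.sum_range_succ (fun i => (semi σ T)^[i] (a • v₀)) d
      rw [hS, h1, Function.iterate_zero_apply] at h2
      exact add_right_cancel h2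
    have h := hker _ hfix
    simp only [semi_iter_smul, map_sum, map_smul, smul_eq_mul] at h
    simpa [mul_comm] using h
  exact hφv (h0 0 hd)

/-- A semilinear fixed basis conjugates its commuting matrices into the fixed field. -/
theorem exists_fixed_frame (σ : F →+* F) (T : GL ι F)
    (hspan : Submodule.span F {v | semi σ (T : Matrix ι ι F) v = v} = ⊤) :
    ∃ B : GL ι F, ∀ m : Matrix ι ι F, (T : Matrix ι ι F) * m.map σ = m * T → ∀ i j,
      σ (((B : Matrix ι ι F) * m * ((B⁻¹ : GL ι F) : Matrix ι ι F)) i j) =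
        ((B : Matrix ι ι F) * m * ((B⁻¹ : GL ι F) : Matrix ι ι F)) i j := by
  classical
  obtain ⟨b, hbW, hbspan, hli⟩ := exists_linearIndependent F {v | semi σ (T : Matrix ι ι F) v = v}
  rw [hspan] at hbspan
  let bb : Module.Basis b F (ι → F) := Module.Basis.mk hli (by rw [Subtype.range_coe, hbspan])
  let bι : Module.Basis ι F (ι → F) := bb.reindex (bb.indexEquiv (Pi.basisFun F ι))
  have hfix : ∀ j, semi σ (T : Matrix ι ι F) (bι j) = bι j := fun j => by
    simp only [bι, bb, Module.Basis.reindex_apply, Module.Basis.mk_apply]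
    exact hbW (Subtype.coe_prop _)
  let C : Matrix ι ι F := Matrix.of fun i j => bι j i
  have hC : IsUnit C := by
    rw [← Matrix.linearIndependent_cols_iff_isUnit]
    exact bι.linearIndependent
  obtain ⟨Cu, hCu⟩ := hC
  have hTC : (T : Matrix ι ι F) * C.map σ = C := by
    ext i j
    exact congrFun (hfix j) i
  refine ⟨Cu⁻¹, fun m hm i j => ?_⟩
  rw [inv_inv, hCu]
  set x := ((Cu⁻¹ : GL ι F) : Matrix ι ι F) * m * C with hx
  have hCx : C * x = m * C := by
    rw [hx, ← hCu, ← mul_assoc, ← mul_assoc, Units.mul_inv, one_mul]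
  have h1 : C * x.map σ = C * x := by
    have h2 := congrArg (fun M : Matrix ι ι F => (T : Matrix ι ι F) * M.map σ) hCx
    simp only [Matrix.map_mul] at h2
    rw [← mul_assoc, hTC, ← mul_assoc, hm, mul_assoc, hTC] at h2
    rw [h2, hCx]
  have h3 : x.map σ = x := by
    have h4 := congrArg (fun M => ((Cu⁻¹ : GL ι F) : Matrix ι ι F) * M) h1
    simp only [← hCu, ← mul_assoc, Units.inv_mul, one_mul] at h4
    exact h4
  exact congrFun (congrFun h3 i) j

section Finite

variable [Fintype F]

theorem subfield_pow_eq_iff (F₀ : Subfield F) (x : F) : x ^ Nat.card F₀ = x ↔ x ∈ F₀ := by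
  classical
  set q := Nat.card F₀ with hq
  have hsub : ∀ y ∈ F₀, y ^ q = y := fun y hy => by
    have h := FiniteField.pow_card (⟨y, hy⟩ : F₀)
    rw [← Nat.card_eq_fintype_card, ← hq] at h
    exact congrArg Subtype.val h
  have hq1 : 1 < q := Finite.one_lt_card
  have hp : (Polynomial.X ^ q - Polynomial.X : Polynomial F) ≠ 0 := FiniteField.X_pow_card_sub_X_ne_zero F hq1
  have hsubset : (F₀ : Set F) ⊆ {y | y ^ q = y} := hsub
  have hfin : {y : F | y ^ q = y}.ncard ≤ q := by
    have hs : {y : F | y ^ q = y} ⊆ ↑(Polynomial.X ^ q - Polynomial.X : Polynomial F).roots.toFinset := fun y hy => by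
      have hy' : y ^ q = y := hy
      simp [Polynomial.mem_roots hp, Polynomial.IsRoot, hy']
    refine (Set.ncard_le_ncard hs (Finset.finite_toSet _)).trans ?_
    rw [Set.ncard_coe_finset]
    refine (Multiset.toFinset_card_le _).trans ((Polynomial.card_roots' _).trans ?_)
    rw [FiniteField.X_pow_card_sub_X_natDegree_eq F hq1]
  have he := Set.eq_of_subset_of_ncard_le hsubset (by
    rw [← Nat.card_coe_set_eq (F₀ : Set F)]
    exact hfin) (Set.toFinite _)
  exact ⟨fun h => (Set.ext_iff.1 he x).2 h, hsub x⟩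

theorem exists_card_eq_pow (F₀ : Subfield F) : ∃ d, 0 < d ∧ Fintype.card F = Nat.card F₀ ^ d := by
  refine ⟨Module.finrank F₀ F, Module.finrank_pos, ?_⟩
  rw [← Nat.card_eq_fintype_card, ← Module.natCard_eq_pow_finrank]

theorem geom_mul {q : ℕ} (hq : 1 ≤ q) : ∀ d, (∑ i ∈ range d, q ^ i) * (q - 1) + 1 = q ^ d
  | 0 => by simp
  | d + 1 => by
    have h := geom_mul hq d
    rw [sum_range_succ, add_mul, pow_succ]
    obtain ⟨r, rfl⟩ : ∃ r, q = r + 1 := ⟨q - 1, by omega⟩
    simp only [Nat.add_sub_cancel] at h ⊢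
    linarith [h, show (r + 1) ^ d * (r + 1) = (r + 1) ^ d * r + (r + 1) ^ d by ring]

theorem exists_norm {q d : ℕ} (hq : 1 < q) (hd : Fintype.card F = q ^ d) {c : F} (hc0 : c ≠ 0)
    (hc : c ^ q = c) : ∃ a : F, a ≠ 0 ∧ a ^ (∑ i ∈ range d, q ^ i) = c := by
  classical
  obtain ⟨g, hg⟩ := IsCyclic.exists_generator (α := Fˣ)
  obtain ⟨k, hk⟩ := (mem_powers_iff_mem_zpowers.2 (hg (Units.mk0 c hc0)))
  have hord : orderOf g = (∑ i ∈ range d, q ^ i) * (q - 1) := by
    rw [orderOf_eq_card_of_forall_mem_zpowers hg, Nat.card_eq_fintype_card, Fintype.card_units, hd,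
      ← geom_mul (le_of_lt hq) d, Nat.add_sub_cancel]
  have h1 : (Units.mk0 c hc0) ^ (q - 1) = 1 := by
    apply Units.ext
    rw [Units.val_pow_eq_pow_val, Units.val_mk0, Units.val_one]
    have := hc
    rw [show q = q - 1 + 1 by omega, pow_succ] at this
    exact mul_eq_right₀ hc0 |>.1 this
  have hk' : g ^ k = Units.mk0 c hc0 := hk
  rw [← hk', ← pow_mul, ← orderOf_dvd_iff_pow_eq_one, hord] at h1
  obtain ⟨r, hr⟩ := Nat.dvd_of_mul_dvd_mul_right (by omega) h1
  refine ⟨((g ^ r : Fˣ) : F), Units.ne_zero _, ?_⟩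
  rw [← Units.val_pow_eq_pow_val, ← pow_mul, mul_comm, ← hr, hk', Units.val_mk0]

theorem pow_dedekind {q d : ℕ} (hq : 1 < q) (hd : Fintype.card F = q ^ d) (c : ℕ → F)
    (h : ∀ a : F, ∑ i ∈ range d, c i * a ^ q ^ i = 0) : ∀ i < d, c i = 0 := by
  classical
  obtain ⟨g, hg⟩ := IsCyclic.exists_generator (α := Fˣ)
  have hord : orderOf g = q ^ d - 1 := by
    rw [orderOf_eq_card_of_forall_mem_zpowers hg, Nat.card_eq_fintype_card, Fintype.card_units, hd]
  let f : Fin d → (F →* F) := fun i => powMonoidHom (q ^ i.1)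
  have hinj : Function.Injective f := fun i j e => by
    have e' : ((g : F)) ^ q ^ i.1 = (g : F) ^ q ^ j.1 := congrArg (fun m : F →* F => m (g : F)) e
    rw [← Units.val_pow_eq_pow_val, ← Units.val_pow_eq_pow_val] at e'
    have e'' := Units.ext e'
    by_cases h1 : d = 1
    · exact Fin.ext (by have := i.2; have := j.2; omega)
    have hlt : ∀ k : Fin d, q ^ k.1 < q ^ d - 1 := fun k => by
      have hk : q ^ k.1 ≤ q ^ (d - 1) := Nat.pow_le_pow_right (by omega) (by have := k.2; omega)
      have h2 : q ^ d = q ^ (d - 1) * q := by rw [← pow_succ, show d - 1 + 1 = d by have := k.2; omega]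
      have h3 : q ≤ q ^ (d - 1) := Nat.le_self_pow (by have := k.2; omega) q
      have h4 : q ^ (d - 1) * 2 ≤ q ^ d := h2 ▸ Nat.mul_le_mul_left _ hq
      omega
    have := pow_injOn_Iio_orderOf (x := g) (by rw [Set.mem_Iio, hord]; exact hlt i)
      (by rw [Set.mem_Iio, hord]; exact hlt j) e''
    exact Fin.ext (Nat.pow_right_injective hq this)
  have hli : LinearIndependent F (fun i => (f i : F → F)) :=
    (linearIndependent_monoidHom F F).comp f hinj
  intro i hi
  refine Fintype.linearIndependent_iff.1 hli (fun j => c j.1) ?_ ⟨i, hi⟩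
  funext a
  simp only [Finset.sum_apply, Pi.smul_apply, smul_eq_mul, Pi.zero_apply]
  exact (Finset.sum_range (fun j => c j * a ^ q ^ j)).symm.trans (h a)

omit [DecidableEq ι] in
theorem semi_scale (σ : F →+* F) (T : Matrix ι ι F) (a : F) : ∀ (k : ℕ) (v : ι → F),
    (semi σ (a • T))^[k] v = (∏ i ∈ range k, σ^[i] a) • (semi σ T)^[k] v
  | 0, v => by simp
  | k + 1, v => by
    rw [Function.iterate_succ_apply', semi_scale σ T a k v, Function.iterate_succ_apply']
    show (a • T) *ᵥ (σ ∘ _) = _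
    rw [smul_mulVec, show T *ᵥ (σ ∘ ((∏ i ∈ range k, σ^[i] a) • (semi σ T)^[k] v)) =
      semi σ T ((∏ i ∈ range k, σ^[i] a) • (semi σ T)^[k] v) from rfl, semi_smul, smul_smul, map_prod,
      Finset.prod_range_succ', Function.iterate_zero_apply, mul_comm]
    simp only [Function.iterate_succ_apply']

/-- An absolutely irreducible group with traces in a subfield can be written over it. -/
theorem realisableOver_of_trace (P : Subgroup (GL ι F)) (hirr : ActsAbsolutelyIrreducibly (matrixSet P))
    (F₀ : Subfield F) (htr : ∀ g ∈ P, Matrix.trace (g : Matrix ι ι F) ∈ F₀) :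
    RealisableOver F₀ (matrixSet P) := by
  classical
  obtain ⟨d, hd, hcard⟩ := exists_card_eq_pow F₀
  set q := Nat.card F₀ with hq
  have hq1 : 1 < q := Finite.one_lt_card
  obtain ⟨p, hpF⟩ := CharP.exists F
  haveI : Fact p.Prime := ⟨CharP.char_is_prime F p⟩
  haveI : CharP F₀ p := by
    refine ⟨fun n => ?_⟩
    rw [← CharP.cast_eq_zero_iff F p n]
    exact ⟨fun h => by simpa using congrArg Subtype.val h, fun h => Subtype.ext (by simpa using h)⟩
  obtain ⟨e, -, hqe⟩ := FiniteField.card F₀ p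
  rw [← Nat.card_eq_fintype_card, ← hq] at hqe
  set σ : F →+* F := iterateFrobenius F p (e : ℕ) with hσdef
  have hσ : ∀ x, σ x = x ^ q := fun x => by rw [hσdef, iterateFrobenius_def, hqe]
  have hiter : ∀ (i : ℕ) (x : F), σ^[i] x = x ^ q ^ i := by
    intro i
    induction i with
    | zero => simp
    | succ i ih => intro x; rw [Function.iterate_succ_apply', ih, hσ, ← pow_mul, ← pow_succ]
  set ρ := incl P with hρ
  let ρ' : ↥P →* Matrix ι ι F := σ.mapMatrix.toMonoidHom.comp ρ
  have hspan := span_range_incl P hirr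
  have hσsurj : Function.Surjective σ := Finite.injective_iff_surjective.1 σ.injective
  have hspan' : Submodule.span F (Set.range ρ') = ⊤ := by
    refine eq_top_iff.2 fun M _ => ?_
    choose s hs using hσsurj
    have hM : M = (Matrix.of fun i j => s (M i j)).map σ := by ext i j; simp [hs]
    rw [hM]
    generalize (Matrix.of fun i j => s (M i j)) = N
    have hN : N ∈ Submodule.span F (Set.range ρ) := by rw [hspan]; trivial
    induction hN using Submodule.span_induction with
    | mem x hx => obtain ⟨g, rfl⟩ := hx; exact Submodule.subset_span ⟨g, rfl⟩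
    | zero => rw [Matrix.map_zero _ (map_zero σ)]; exact zero_mem _
    | add x y _ _ hx hy => rw [Matrix.map_add _ (map_add σ)]; exact add_mem hx hy
    | smul c x _ hx =>
      rw [show (c • x).map σ = σ c • x.map σ by ext i j; simp]
      exact Submodule.smul_mem _ _ hx
  have htr' : ∀ x, Matrix.trace (ρ' x) = Matrix.trace (ρ x) := fun x => by
    show Matrix.trace ((ρ x).map σ) = _
    rw [show Matrix.trace ((ρ x).map σ) = σ (Matrix.trace (ρ x)) by simp [Matrix.trace], hσ]
    exact (subfield_pow_eq_iff F₀ _).2 (htr x x.2)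
  obtain ⟨T, hT⟩ := exists_conj_of_trace ρ' ρ hspan' hspan htr'
  have hcomm : ∀ s ∈ matrixSet P, (T : Matrix ι ι F) * s.map σ = s * T := by
    intro s hs
    rw [← range_incl] at hs
    obtain ⟨x, rfl⟩ := hs
    show (T : Matrix ι ι F) * ρ' x = ρ x * T
    rw [hT x, mul_assoc _ ((T⁻¹ : GL ι F) : Matrix ι ι F), Units.inv_mul, mul_one]
  -- the `d`-th power is scalar
  set S := semi σ (T : Matrix ι ι F) with hS
  let Nd : (ι → F) →ₗ[F] (ι → F) :=
    { toFun := S^[d]
      map_add' := semi_iter_add σ _ d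
      map_smul' := fun c v => by
        rw [RingHom.id_apply, hS, semi_iter_smul, hiter, ← hcard, FiniteField.pow_card] }
  have hNs : ∀ s ∈ matrixSet P, ∀ v, S^[d] (s *ᵥ v) = s *ᵥ S^[d] v := fun s hs v => by
    have h1 : ∀ v, S (s *ᵥ v) = s *ᵥ S v := fun v => by
      rw [hS, semi, semi, show σ ∘ (s *ᵥ v) = s.map σ *ᵥ (σ ∘ v) by
        funext i; exact RingHom.map_mulVec σ s v i, mulVec_mulVec, mulVec_mulVec, hcomm s hs]
    exact (Function.Commute.iterate_left (fun v => h1 v) d) v
  obtain ⟨c, hc⟩ := hirr.2 (LinearMap.toMatrix' Nd) fun s hs => by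
    refine Matrix.ext_iff_mulVec.2 fun v => ?_
    rw [← mulVec_mulVec, ← mulVec_mulVec, LinearMap.toMatrix'_mulVec, LinearMap.toMatrix'_mulVec]
    exact hNs s hs v
  have hNd : ∀ v, S^[d] v = c • v := fun v => by
    rw [show S^[d] v = Nd v from rfl, ← LinearMap.toMatrix'_mulVec, hc, smul_mulVec, one_mulVec]
  rcases isEmpty_or_nonempty ι with he | ⟨⟨i₀⟩⟩
  · exact ⟨1, fun s _ i => isEmptyElim i⟩
  set e₀ : ι → F := Pi.single i₀ 1 with he₀
  have hTinj : Function.Injective S := fun u v huv => by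
    have h1 : σ ∘ u = σ ∘ v := by
      have h2 := congrArg (fun w => ((T⁻¹ : GL ι F) : Matrix ι ι F) *ᵥ w) huv
      simpa [hS, semi, mulVec_mulVec] using h2
    exact funext fun i => σ.injective (congrFun h1 i)
  have hS0 : S 0 = 0 := by
    have := semi_smul σ (T : Matrix ι ι F) 0 0
    simpa [hS] using this
  have hne : S^[d] e₀ ≠ 0 := fun h0 => by
    have h1 : S^[d] (0 : ι → F) = 0 := Function.iterate_fixed hS0 d
    have := (hTinj.iterate d) (h0.trans h1.symm)
    simpa [he₀] using congrFun this i₀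
  have hc0 : c ≠ 0 := fun h0 => hne (by rw [hNd, h0, zero_smul])
  have hcq : c ^ q = c := by
    have h1 : S^[d] (S e₀) = S (S^[d] e₀) := by
      rw [← Function.iterate_succ_apply, Function.iterate_succ_apply']
    rw [hNd, hNd, hS, semi_smul, ← hS, hσ] at h1
    have h2 : S e₀ ≠ 0 := fun h0 => by
      have := hTinj (h0.trans hS0.symm)
      simpa [he₀] using congrFun this i₀
    obtain ⟨j, hj⟩ := Function.ne_iff.1 h2
    exact (mul_right_cancel₀ hj (congrFun h1 j)).symm
  obtain ⟨a, ha0, ha⟩ := exists_norm hq1 hcard (inv_ne_zero hc0) (by rw [inv_pow, hcq])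
  let aT : GL ι F :=
    ⟨a • (T : Matrix ι ι F), a⁻¹ • ((T⁻¹ : GL ι F) : Matrix ι ι F),
      by rw [smul_mul_smul_comm, mul_inv_cancel₀ ha0, one_smul, Units.mul_inv],
      by rw [smul_mul_smul_comm, inv_mul_cancel₀ ha0, one_smul, Units.inv_mul]⟩
  have hfix : ∀ v, (semi σ (aT : Matrix ι ι F))^[d] v = v := fun v => by
    show (semi σ (a • (T : Matrix ι ι F)))^[d] v = v
    rw [semi_scale, ← hS, hNd, smul_smul]
    simp only [hiter]
    rw [Finset.prod_pow_eq_pow_sum, ha, inv_mul_cancel₀ hc0, one_smul]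
  have hsp := span_fixed σ (aT : Matrix ι ι F) hd hfix (fun c hc =>
    pow_dedekind hq1 hcard c (fun x => by simpa only [hiter] using hc x))
  obtain ⟨B, hB⟩ := exists_fixed_frame σ aT hsp
  refine ⟨B, fun s hs i j => (subfield_pow_eq_iff F₀ _).1 ?_⟩
  rw [← hσ]
  refine hB s ?_ i j
  show a • (T : Matrix ι ι F) * s.map σ = s * (a • (T : Matrix ι ι F))
  rw [Matrix.smul_mul, hcomm s hs, Matrix.mul_smul]

/-- The traces of a residual core lie in no proper subfield. -/
theorem trace_not_subfield {H P : Subgroup (GL ι F)} (h : IsResidualCore H P) (F₀ : Subfield F)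
    (hF₀ : F₀ ≠ ⊤) : ¬ ∀ g ∈ P, Matrix.trace (g : Matrix ι ι F) ∈ F₀ := fun htr =>
  h.no_subfield F₀ hF₀ (realisableOver_of_trace P h.absIrred F₀ htr)

end Finite

end Cfsg.Agent.PSLThree.Rep
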