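import Cfsg.Agent.Lib.PSLThree.Rep.Residual

/-!
# Linear and unitary cores are not residual cores of maximal subgroups
-/

set_option autoImplicit false

namespace Cfsg.Agent.PSLThree.Rep

open Matrix
open Cfsg.Geo (IsResidualCore IsMaximalIn matrixSet)

variable {F : Type*} [Field F] [Fintype F] {H P : Subgroup (GL (Fin 3) F)}

/-- the map `x ↦ x ^ q` of a field with `q ^ 2` elements -/
noncomputable def qEquiv {q : ℕ} (hF : Fintype.card F = q ^ 2) : F ≃+* F :=
  RingEquiv.ofBijective (Forms.HermStd.qHom hF)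
    ⟨(Forms.HermStd.qHom hF).injective, fun x => ⟨x ^ q, Forms.HermStd.pow_q_q hF x⟩⟩

theorem qEquiv_apply {q : ℕ} (hF : Fintype.card F = q ^ 2) (x : F) : qEquiv hF x = x ^ q := rfl

theorem mem_GU_iff_mul {q : ℕ} (hF : Fintype.card F = q ^ 2) (x : GL (Fin 3) F) :
    x ∈ Cfsg.GU 3 F q ↔ (x : Matrix (Fin 3) (Fin 3) F)ᵀ * (x : Matrix (Fin 3) (Fin 3) F).map (· ^ q) = 1 := by
  classical
  have hq : q ≠ 0 := by have := Forms.HermStd.one_lt_q hF; omega
  set M : Matrix (Fin 3) (Fin 3) F := (x : Matrix (Fin 3) (Fin 3) F)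
  constructor
  · intro hx
    ext i j
    have h1 : Cfsg.hermForm 3 F q (M *ᵥ Pi.single i 1) (M *ᵥ Pi.single j 1) =
      Cfsg.hermForm 3 F q (Pi.single i 1) (Pi.single j 1) := hx _ _
    rw [Forms.HermStd.hermForm_single_single i j hq] at h1
    rw [Matrix.one_apply, ← h1]
    simp [Cfsg.hermForm, Matrix.mul_apply, Matrix.mulVec_single]
  · intro h u v
    show Cfsg.hermForm 3 F q (M *ᵥ u) (M *ᵥ v) = Cfsg.hermForm 3 F q u v
    have h1 : ∀ w : Fin 3 → F, (fun i => (M *ᵥ w) i ^ q) = M.map (· ^ q) *ᵥ fun i => w i ^ q := fun w =>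
      funext fun i => RingHom.map_mulVec (Forms.HermStd.qHom hF) M w i
    show (M *ᵥ u) ⬝ᵥ (fun i => (M *ᵥ v) i ^ q) = u ⬝ᵥ fun i => v i ^ q
    rw [h1, ← vecMul_transpose, ← dotProduct_mulVec, mulVec_mulVec, h, one_mulVec]

theorem realisable_of_entries {K : Subfield F} (T : GL (Fin 3) F)
    (h : ∀ x ∈ P, ∀ i j, ((T * x * T⁻¹ : GL (Fin 3) F) : Matrix (Fin 3) (Fin 3) F) i j ∈ K) :
    Cfsg.Geo.RealisableOver K (matrixSet P) := by
  refine ⟨T, ?_⟩
  rintro _ ⟨x, hx, rfl⟩ i j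
  have := h x hx i j
  rwa [Units.val_mul, Units.val_mul] at this

theorem lin_top (hres : IsResidualCore H P) (h : LinType P) :
    ∀ x : GL (Fin 3) F, x ∈ P ↔ (x : Matrix (Fin 3) (Fin 3) F).det = 1 := by
  obtain ⟨K, T, hT⟩ := h
  have hK : K = ⊤ := by_contra fun hK =>
    hres.no_subfield K hK (realisable_of_entries T fun x hx => ((hT x).1 hx).2)
  intro x
  rw [hT x]
  exact ⟨fun h => h.1, fun h => ⟨h, fun i j => by rw [hK]; trivial⟩⟩

theorem not_linType_linear (hH : IsMaximalIn (Cfsg.Geo.specialLinear (Fin 3) F) H) (hres : IsResidualCore H P) :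
    ¬ LinType P := fun h => by
  refine hH.1.ne (le_antisymm hH.1.le fun x hx => hres.le ((lin_top hres h x).2 ?_))
  exact det_eq_one le_rfl hx

theorem not_linType_unitary {q : ℕ} (hF : Fintype.card F = q ^ 2) (hres : IsResidualCore H P)
    (hP : P ≤ Cfsg.GU 3 F q) : ¬ LinType P := fun h => by
  set M : Matrix (Fin 3) (Fin 3) F := !![0, 0, 1; 1, 0, 0; 0, 1, 1] with hM
  set N : Matrix (Fin 3) (Fin 3) F := !![0, 1, 0; -1, 0, 1; 1, 0, 0] with hN
  have hdet : M.det = 1 := by simp [hM, det_fin_three]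
  have h1 : M * N = 1 := by
    ext i j; fin_cases i <;> fin_cases j <;> simp [hM, hN, Matrix.mul_apply, Fin.sum_univ_three]
  let g : GL (Fin 3) F := ⟨M, N, h1, mul_eq_one_comm.1 h1⟩
  have := twist_of_le_GU hF hP g ((lin_top hres h g).2 hdet)
  have e1 : tr g = 1 := by
    show Matrix.trace M = 1
    simp [hM, Matrix.trace, Fin.sum_univ_three]
  have e2 : tr g⁻¹ = 0 := by
    show Matrix.trace N = 0
    simp [hN, Matrix.trace, Fin.sum_univ_three]
  rw [e1, e2, one_pow] at this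
  exact one_ne_zero this

/-- a core of unitary type over the whole field inverts traces by `x ↦ x ^ q₀` -/
theorem uni_top (hres : IsResidualCore H P) (h : UniType P) :
    ∃ (q₀ : ℕ) (T : GL (Fin 3) F), Fintype.card F = q₀ ^ 2 ∧
      ∀ x : GL (Fin 3) F, x ∈ P ↔ (x : Matrix (Fin 3) (Fin 3) F).det = 1 ∧ T * x * T⁻¹ ∈ Cfsg.GU 3 F q₀ := by
  obtain ⟨K, q₀, T, hc, hT⟩ := h
  have hK : K = ⊤ := by_contra fun hK =>
    hres.no_subfield K hK (realisable_of_entries T fun x hx => ((hT x).1 hx).2.1)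
  subst hK
  have hF : Fintype.card F = q₀ ^ 2 := by
    rw [← hc, ← Nat.card_eq_fintype_card]
    exact Nat.card_congr (Equiv.subtypeUnivEquiv fun x => Subfield.mem_top x).symm
  refine ⟨q₀, T, hF, fun x => ?_⟩
  rw [hT x, mem_GU_iff_mul hF]
  exact ⟨fun h => ⟨h.1, h.2.2⟩, fun h => ⟨h.1, fun _ _ => Subfield.mem_top _, h.2⟩⟩

theorem not_uniType_linear (hres : IsResidualCore H P)
    (hU : ∀ σ : F ≃+* F, (∀ a, σ (σ a) = a) → σ ≠ RingEquiv.refl F → ¬ ∀ g ∈ P, σ (tr g) = tr g⁻¹) :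
    ¬ UniType P := fun h => by
  obtain ⟨q, T, hF, hT⟩ := uni_top hres h
  refine hU (qEquiv hF) (fun a => Forms.HermStd.pow_q_q hF a) (fun e => ?_) fun g hg => ?_
  · exact Forms.HermStd.qHom_ne_id hF (RingHom.ext fun x => RingEquiv.congr_fun e x)
  · have htw := twist_of_le_GU hF (P := Cfsg.GU 3 F q) le_rfl (T * g * T⁻¹) ((hT g).1 hg).2
    rw [tr_conj, _root_.mul_inv_rev, _root_.mul_inv_rev, inv_inv, ← mul_assoc, tr_conj] at htw
    exact htw

theorem not_uniType_unitary {q : ℕ} (hF : Fintype.card F = q ^ 2)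
    (hH : IsMaximalIn (Cfsg.GU 3 F q ⊓ Cfsg.Geo.specialLinear (Fin 3) F) H) (hres : IsResidualCore H P) :
    ¬ UniType P := fun h => by
  obtain ⟨q₀, T, hF₀, hT⟩ := uni_top hres h
  obtain rfl : q₀ = q := Nat.pow_left_injective two_ne_zero (hF₀.symm.trans hF)
  set S := Cfsg.GU 3 F q₀ ⊓ Cfsg.Geo.specialLinear (Fin 3) F
  have hPS : P ≤ S := hres.le.trans hH.1.le
  have hmap : P.map (MulAut.conj T).toMonoidHom = S := by
    ext y
    constructor
    · rintro ⟨x, hx, rfl⟩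
      exact ⟨((hT x).1 hx).2,
        (MonoidHom.normal_ker _).conj_mem x (hPS hx).2 T⟩
    · intro hy
      refine ⟨T⁻¹ * y * T, (hT _).2 ⟨?_, ?_⟩, by simp [mul_assoc]⟩
      · rw [Units.val_mul, Units.val_mul, det_mul, det_mul, det_eq_one le_rfl hy.2, mul_one, ← det_mul,
          Units.inv_mul, det_one]
      · rw [show T * (T⁻¹ * y * T) * T⁻¹ = y by group]
        exact hy.1
  have hcard : Nat.card P = Nat.card S := by
    rw [← hmap, Subgroup.card_map_of_injective (MulAut.conj T).injective]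
  exact hH.1.ne (le_antisymm hH.1.le ((Subgroup.eq_of_le_of_card_ge hPS hcard.ge) ▸ hres.le))

end Cfsg.Agent.PSLThree.Rep
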