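import Mathlib

/-!
# Powers and inverses up to conjugacy in `A₆` and `A₇`
-/

set_option autoImplicit false
set_option maxRecDepth 20000

namespace Cfsg.Agent.PSLThree.Rep.AltClasses

open Equiv

/-- conjugacy of two powers passes from a permutation to every permutation of the same cycle type -/
theorem conj_pows {n : ℕ} {r y : Perm (Fin n)} {x : alternatingGroup (Fin n)}
    (hx : (x : Perm (Fin n)).cycleType = r.cycleType) (hy : Perm.sign y = 1) {i j : ℕ}
    (h : y * r ^ i = r ^ j * y) : ∃ z : alternatingGroup (Fin n), z * x ^ i * z⁻¹ = x ^ j := by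
  obtain ⟨π, hπ⟩ := isConj_iff.1 (Perm.isConj_iff_cycleType_eq.2 hx.symm)
  refine ⟨⟨π * y * π⁻¹, Perm.mem_alternatingGroup.2 (by
    rw [Perm.sign_mul, Perm.sign_mul, Perm.sign_inv, mul_right_comm, Int.units_mul_self, one_mul, hy])⟩,
    Subtype.ext ?_⟩
  push_cast
  rw [← hπ, conj_pow, conj_pow]
  calc π * y * π⁻¹ * (π * r ^ i * π⁻¹) * (π * y * π⁻¹)⁻¹ = π * (y * r ^ i) * y⁻¹ * π⁻¹ := by group
    _ = π * r ^ j * π⁻¹ := by rw [h]; group

theorem pow_one_of {n : ℕ} {r : Perm (Fin n)} {x : alternatingGroup (Fin n)}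
    (hx : (x : Perm (Fin n)).cycleType = r.cycleType) {k : ℕ} (h : r ^ k = 1) : x ^ k = 1 := by
  obtain ⟨π, hπ⟩ := isConj_iff.1 (Perm.isConj_iff_cycleType_eq.2 hx.symm)
  refine Subtype.ext ?_
  push_cast
  rw [← hπ, conj_pow, h, mul_one, mul_inv_cancel]

/-- with `x ^ k = 1` a conjugacy `x → x ^ (k - 1)` inverts -/
theorem inv_of {G : Type*} [Group G] {x z : G} {k : ℕ} (hk : x ^ (k + 1) = 1) (h : z * x ^ 1 * z⁻¹ = x ^ k) :
    z * x * z⁻¹ = x⁻¹ := by
  rw [pow_one] at h
  rw [h, eq_inv_iff_mul_eq_one, ← pow_succ, hk]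

theorem type_cases {n : ℕ} (hn : n ≤ 7) (x : alternatingGroup (Fin n)) :
    (x : Perm (Fin n)).cycleType = 0 ∨ (x : Perm (Fin n)).cycleType = {2, 2} ∨
      (x : Perm (Fin n)).cycleType = {3} ∨ (x : Perm (Fin n)).cycleType = {3, 3} ∨
      (x : Perm (Fin n)).cycleType = {4, 2} ∨ (x : Perm (Fin n)).cycleType = {5} ∨
      (n = 7 ∧ ((x : Perm (Fin n)).cycleType = {3, 2, 2} ∨ (x : Perm (Fin n)).cycleType = {7})) := by
  obtain ⟨x, hx⟩ := x
  have hsum : x.cycleType.sum ≤ n := by
    rw [Perm.sum_cycleType]; exact (Finset.card_le_univ _).trans (by simp)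
  have h2 : ∀ a ∈ x.cycleType, 2 ≤ a := fun a ha => Perm.two_le_of_mem_cycleType ha
  have hs := Perm.sign_of_cycleType x
  rw [Perm.mem_alternatingGroup.1 hx] at hs
  have hev : Even (x.cycleType.sum + x.cycleType.card) := by
    rcases Nat.even_or_odd (x.cycleType.sum + x.cycleType.card) with h | h
    · exact h
    · rw [h.neg_one_pow] at hs; exact absurd hs (by decide)
  show x.cycleType = 0 ∨ _
  generalize x.cycleType = m at hsum h2 hev ⊢
  obtain ⟨l, rfl⟩ := Quot.exists_rep m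
  simp only [Multiset.quot_mk_to_coe''] at *
  rcases l with _ | ⟨a, _ | ⟨b, _ | ⟨c, _ | ⟨d, l⟩⟩⟩⟩
  · exact Or.inl rfl
  · simp at hsum h2 hev
    have ha' : a ≤ 7 := by omega
    interval_cases a <;> first
      | omega
      | exact absurd hev (by decide)
      | exact Or.inr (Or.inr (Or.inl (by decide)))
      | exact Or.inr (Or.inr (Or.inr (Or.inr (Or.inr (Or.inl (by decide))))))
      | exact Or.inr (Or.inr (Or.inr (Or.inr (Or.inr (Or.inr ⟨by omega, Or.inr (by decide)⟩)))))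
  · simp at hsum h2 hev
    obtain ⟨ha, hb⟩ := h2
    have ha' : a ≤ 5 := by omega
    have hb' : b ≤ 5 := by omega
    interval_cases a <;> interval_cases b <;> first
      | omega
      | exact absurd hev (by decide)
      | exact Or.inr (Or.inl (by decide))
      | exact Or.inr (Or.inr (Or.inr (Or.inl (by decide))))
      | exact Or.inr (Or.inr (Or.inr (Or.inr (Or.inl (by decide)))))
  · simp at hsum h2 hev
    obtain ⟨ha, hb, hc⟩ := h2
    have ha' : a ≤ 3 := by omega
    have hb' : b ≤ 3 := by omega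
    have hc' : c ≤ 3 := by omega
    interval_cases a <;> interval_cases b <;> interval_cases c <;> first
      | omega
      | exact absurd hev (by decide)
      | exact Or.inr (Or.inr (Or.inr (Or.inr (Or.inr (Or.inr ⟨by omega, Or.inl (by decide)⟩)))))
  · simp at hsum h2 hev
    omega

/-- elements of `A₆`: real, of order at most five -/
theorem six (x : alternatingGroup (Fin 6)) :
    (∃ z, z * x * z⁻¹ = x⁻¹) ∧ (x ^ 3 = 1 ∨ x ^ 4 = 1 ∨ x ^ 5 = 1) := by
  rcases type_cases (by norm_num) x with h | h | h | h | h | h | ⟨h7, -⟩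
  · have hx : x = 1 := Subtype.ext (Perm.cycleType_eq_zero.1 h)
    exact ⟨⟨1, by simp [hx]⟩, Or.inl (by simp [hx])⟩
  · have ht : (x : Perm (Fin 6)).cycleType = (swap (0 : Fin 6) 1 * swap 2 3).cycleType := h.trans (by decide +kernel)
    obtain ⟨z, hz⟩ := conj_pows ht (y := 1) (i := 1) (j := 3) (by simp) (by decide +kernel)
    exact ⟨⟨z, inv_of (pow_one_of ht (by decide +kernel)) hz⟩, Or.inr (Or.inl (pow_one_of ht (by decide +kernel)))⟩
  · have ht : (x : Perm (Fin 6)).cycleType = (swap (0 : Fin 6) 1 * swap 1 2).cycleType := h.trans (by decide +kernel)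
    obtain ⟨z, hz⟩ := conj_pows ht (y := swap 1 2 * swap 3 4) (i := 1) (j := 2) (by decide +kernel) (by decide +kernel)
    exact ⟨⟨z, inv_of (pow_one_of ht (by decide +kernel)) hz⟩, Or.inl (pow_one_of ht (by decide +kernel))⟩
  · have ht : (x : Perm (Fin 6)).cycleType = (swap (0 : Fin 6) 1 * swap 1 2 * (swap 3 4 * swap 4 5)).cycleType :=
      h.trans (by decide +kernel)
    obtain ⟨z, hz⟩ := conj_pows ht (y := swap 1 2 * swap 4 5) (i := 1) (j := 2) (by decide +kernel) (by decide +kernel)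
    exact ⟨⟨z, inv_of (pow_one_of ht (by decide +kernel)) hz⟩, Or.inl (pow_one_of ht (by decide +kernel))⟩
  · have ht : (x : Perm (Fin 6)).cycleType = (swap (0 : Fin 6) 1 * swap 1 2 * swap 2 3 * swap 4 5).cycleType :=
      h.trans (by decide +kernel)
    obtain ⟨z, hz⟩ := conj_pows ht (y := swap 1 3 * swap 4 5) (i := 1) (j := 3) (by decide +kernel) (by decide +kernel)
    exact ⟨⟨z, inv_of (pow_one_of ht (by decide +kernel)) hz⟩, Or.inr (Or.inl (pow_one_of ht (by decide +kernel)))⟩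
  · have ht : (x : Perm (Fin 6)).cycleType = (swap (0 : Fin 6) 1 * swap 1 2 * swap 2 3 * swap 3 4).cycleType :=
      h.trans (by decide +kernel)
    obtain ⟨z, hz⟩ := conj_pows ht (y := swap 1 4 * swap 2 3) (i := 1) (j := 4) (by decide +kernel) (by decide +kernel)
    exact ⟨⟨z, inv_of (pow_one_of ht (by decide +kernel)) hz⟩, Or.inr (Or.inr (pow_one_of ht (by decide +kernel)))⟩
  · exact absurd h7 (by norm_num)

/-- elements of `A₇` -/
theorem seven (x : alternatingGroup (Fin 7)) :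
    (∃ z, z * x * z⁻¹ = x⁻¹) ∧ (x ^ 6 = 1 ∨ x ^ 4 = 1 ∨ x ^ 5 = 1) ∨
      (x ^ 7 = 1 ∧ ∃ z, z * x ^ 5 * z⁻¹ = x⁻¹) := by
  rcases type_cases le_rfl x with h | h | h | h | h | h | ⟨-, h | h⟩
  · have hx : x = 1 := Subtype.ext (Perm.cycleType_eq_zero.1 h)
    exact Or.inl ⟨⟨1, by simp [hx]⟩, Or.inl (by simp [hx])⟩
  · have ht : (x : Perm (Fin 7)).cycleType = (swap (0 : Fin 7) 1 * swap 2 3).cycleType := h.trans (by decide +kernel)
    obtain ⟨z, hz⟩ := conj_pows ht (y := 1) (i := 1) (j := 3) (by simp) (by decide +kernel)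
    exact Or.inl ⟨⟨z, inv_of (pow_one_of ht (by decide +kernel)) hz⟩,
      Or.inr (Or.inl (pow_one_of ht (by decide +kernel)))⟩
  · have ht : (x : Perm (Fin 7)).cycleType = (swap (0 : Fin 7) 1 * swap 1 2).cycleType := h.trans (by decide +kernel)
    obtain ⟨z, hz⟩ := conj_pows ht (y := swap 1 2 * swap 3 4) (i := 1) (j := 2) (by decide +kernel) (by decide +kernel)
    exact Or.inl ⟨⟨z, inv_of (pow_one_of ht (by decide +kernel)) hz⟩, Or.inl (pow_one_of ht (by decide +kernel))⟩
  · have ht : (x : Perm (Fin 7)).cycleType = (swap (0 : Fin 7) 1 * swap 1 2 * (swap 3 4 * swap 4 5)).cycleType :=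
      h.trans (by decide +kernel)
    obtain ⟨z, hz⟩ := conj_pows ht (y := swap 1 2 * swap 4 5) (i := 1) (j := 2) (by decide +kernel) (by decide +kernel)
    exact Or.inl ⟨⟨z, inv_of (pow_one_of ht (by decide +kernel)) hz⟩, Or.inl (pow_one_of ht (by decide +kernel))⟩
  · have ht : (x : Perm (Fin 7)).cycleType = (swap (0 : Fin 7) 1 * swap 1 2 * swap 2 3 * swap 4 5).cycleType :=
      h.trans (by decide +kernel)
    obtain ⟨z, hz⟩ := conj_pows ht (y := swap 1 3 * swap 4 5) (i := 1) (j := 3) (by decide +kernel) (by decide +kernel)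
    exact Or.inl ⟨⟨z, inv_of (pow_one_of ht (by decide +kernel)) hz⟩,
      Or.inr (Or.inl (pow_one_of ht (by decide +kernel)))⟩
  · have ht : (x : Perm (Fin 7)).cycleType = (swap (0 : Fin 7) 1 * swap 1 2 * swap 2 3 * swap 3 4).cycleType :=
      h.trans (by decide +kernel)
    obtain ⟨z, hz⟩ := conj_pows ht (y := swap 1 4 * swap 2 3) (i := 1) (j := 4) (by decide +kernel) (by decide +kernel)
    exact Or.inl ⟨⟨z, inv_of (pow_one_of ht (by decide +kernel)) hz⟩,
      Or.inr (Or.inr (pow_one_of ht (by decide +kernel)))⟩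
  · have ht : (x : Perm (Fin 7)).cycleType = (swap (0 : Fin 7) 1 * swap 1 2 * (swap 3 4 * swap 5 6)).cycleType :=
      h.trans (by decide +kernel)
    obtain ⟨z, hz⟩ := conj_pows ht (y := swap 1 2 * swap 3 4) (i := 1) (j := 5) (by decide +kernel) (by decide +kernel)
    exact Or.inl ⟨⟨z, inv_of (pow_one_of ht (by decide +kernel)) hz⟩, Or.inl (pow_one_of ht (by decide +kernel))⟩
  · have ht : (x : Perm (Fin 7)).cycleType =
        (swap (0 : Fin 7) 1 * swap 1 2 * swap 2 3 * swap 3 4 * swap 4 5 * swap 5 6).cycleType :=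
      h.trans (by decide +kernel)
    obtain ⟨z, hz⟩ := conj_pows ht (y := swap 1 4 * swap 4 2 * (swap 3 5 * swap 5 6)) (i := 5) (j := 6)
      (by decide +kernel) (by decide +kernel)
    have h7 : x ^ 7 = 1 := pow_one_of ht (by decide +kernel)
    exact Or.inr ⟨h7, z, hz.trans (eq_inv_iff_mul_eq_one.2 (by rw [← pow_succ, h7]))⟩

end Cfsg.Agent.PSLThree.Rep.AltClasses
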