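import Cfsg.Agent.Lib.PSLThree.Rep.Forms
import Cfsg.Agent.Lib.PSLThree.Small.Lifts

/-!
# Traces of powers

`trace_pow_char`: `tr (g ^ p) = (tr g) ^ p` in characteristic `p`.
`trace_rel`: if in `Bar G` every `p`-regular `x` has `x ^ m` conjugate to `x ^ s`, then
`(tr g) ^ m = tr (g ^ s)` on all of `G`, under the conditions making lifts of conjugacies exact.
The last lemmas turn such relations into the order of the field.
-/

set_option autoImplicit false

namespace Cfsg.Agent.PSLThree.Rep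

open Matrix Polynomial
open Cfsg.Agent.PSLThree.Small (NoScalar scalar_root)

variable {F : Type*} [Field F]

theorem trace_pow_char {n : Type} [Fintype n] [DecidableEq n] [Nonempty n] (p : ℕ) [Fact p.Prime] [CharP F p]
    (M : Matrix n n F) : Matrix.trace (M ^ p) = Matrix.trace M ^ p := by
  have h : Polynomial.expand F p (M ^ p).charpoly = M.charpoly ^ p := by
    unfold Matrix.charpoly
    rw [AlgHom.map_det, ← coe_detMonoidHom, ← (detMonoidHom : Matrix n n F[X] →* F[X]).map_pow]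
    apply congr_arg det
    refine matPolyEquiv.injective ?_
    rw [map_pow, matPolyEquiv_charmatrix, sub_pow_char_of_commute, ← C_pow]
    · exact (id (matPolyEquiv_eq_X_pow_sub_C p M) :)
    · exact (C M).commute_X
  rw [← Polynomial.map_frobenius_expand, Polynomial.map_expand] at h
  rw [Matrix.trace_eq_neg_charpoly_coeff, Matrix.trace_eq_neg_charpoly_coeff,
    Polynomial.expand_injective (Fact.out : p.Prime).pos h, Polynomial.coeff_map, ← frobenius_def, map_neg]

theorem trace_pow_char_pow {n : Type} [Fintype n] [DecidableEq n] [Nonempty n] (p : ℕ) [Fact p.Prime] [CharP F p]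
    (M : Matrix n n F) : ∀ j, Matrix.trace (M ^ p ^ j) = Matrix.trace M ^ p ^ j
  | 0 => by simp
  | j + 1 => by rw [pow_succ, pow_mul, trace_pow_char, trace_pow_char_pow p M j, ← pow_mul]

local notation "GL3" => GL (Fin 3) F
local notation "Sc" => Cfsg.Geo.scalars (Fin 3) F

/-- the trace of an element of `GL₃` -/
abbrev tr (g : GL3) : F := Matrix.trace (g : Matrix (Fin 3) (Fin 3) F)

theorem tr_conj (k g : GL3) : tr (k * g * k⁻¹) = tr g := by
  simp only [tr, Units.val_mul]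
  rw [trace_mul_comm, ← mul_assoc, Units.inv_mul, one_mul]

variable {G : Subgroup (GL (Fin 3) F)}

theorem mk_zpow {g : GL3} (hg : g ∈ G) (s : ℤ) :
    ((⟨g, hg⟩ : G) : Bar G) ^ s = ((⟨g ^ s, zpow_mem hg s⟩ : G) : Bar G) := by
  rw [← QuotientGroup.mk_zpow]; rfl

theorem mk_pow {g : GL3} (hg : g ∈ G) (m : ℕ) :
    ((⟨g, hg⟩ : G) : Bar G) ^ m = ((⟨g ^ m, pow_mem hg m⟩ : G) : Bar G) := by
  rw [← QuotientGroup.mk_pow]; rfl

theorem exists_scalar_of_conj {g k h : GL3} (hg : g ∈ G) (hk : k ∈ G) (hh : h ∈ G)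
    (e : ((⟨k, hk⟩ : G) : Bar G) * ((⟨g, hg⟩ : G) : Bar G) * ((⟨k, hk⟩ : G) : Bar G)⁻¹ = ((⟨h, hh⟩ : G) : Bar G)) :
    ∃ d ∈ G, d ∈ Sc ∧ k * g * k⁻¹ = d * h := by
  have e' : ((⟨h, hh⟩ : G) : Bar G) = ((⟨k * g * k⁻¹, mul_mem (mul_mem hk hg) (inv_mem hk)⟩ : G) : Bar G) := e.symm
  have hs := mk_eq.1 e'
  refine ⟨h⁻¹ * (k * g * k⁻¹), mul_mem (inv_mem hh) (mul_mem (mul_mem hk hg) (inv_mem hk)), hs, ?_⟩
  rw [(scalar_comm hs h).eq, mul_inv_cancel_left]

/-- an element whose image is conjugate to its inverse has the expected order -/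
theorem pow_eq_one_of_real (hG : G ≤ Cfsg.Geo.specialLinear (Fin 3) F) {g : GL3} (hg : g ∈ G) {n : ℕ}
    (hn : ((⟨g, hg⟩ : G) : Bar G) ^ n = 1) (h3 : 3 ∣ n) {y : Bar G}
    (hy : y * ((⟨g, hg⟩ : G) : Bar G) * y⁻¹ = ((⟨g, hg⟩ : G) : Bar G)⁻¹) : g ^ n = 1 := by
  obtain ⟨k, hk, rfl⟩ := exists_rep y
  rw [mk_pow hg, mk_eq_one] at hn
  obtain ⟨d, hd, hds, e⟩ := exists_scalar_of_conj hg hk (inv_mem hg) hy
  have hdn : d ^ n = 1 := by
    obtain ⟨l, rfl⟩ := h3
    rw [pow_mul, scalar_cube hG hd hds, one_pow]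
  have h := congrArg (· ^ n) e
  beta_reduce at h
  rw [conj_pow, ← (scalar_comm hn k).eq, mul_inv_cancel_right, (scalar_comm hds g⁻¹).mul_pow, hdn,
    one_mul, inv_pow] at h
  refine scalar_eq_one hG (n := 2) (by norm_num) (pow_mem hg n) hn ?_
  rw [pow_two]
  exact (congrArg (· * g ^ n) h).trans (inv_mul_cancel _)

/-- traces of powers from conjugacy modulo scalars -/
theorem trace_rel [Finite F] (hG : G ≤ Cfsg.Geo.specialLinear (Fin 3) F) (p : ℕ) [Fact p.Prime] [CharP F p]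
    (j : ℕ) (s : ℤ)
    (hconj : ∀ x : Bar G, ¬ p ∣ orderOf x → ∃ y, y * x ^ p ^ j * y⁻¹ = x ^ s)
    (h3 : NoScalar G ∨ ((3 : ℤ) ∣ ((p ^ j : ℕ) : ℤ) - s ∧ ∀ x : Bar G, ¬ p ∣ orderOf x → 3 ∣ orderOf x →
      (orderOf x : ℤ) ∣ ((p ^ j : ℕ) : ℤ) - s ∧ ∃ y, y * x * y⁻¹ = x⁻¹)) :
    ∀ g ∈ G, tr g ^ p ^ j = tr (g ^ s) := by
  haveI : Finite GL3 := inferInstance
  intro g
  induction hord : orderOf g using Nat.strong_induction_on generalizing g with
  | _ N IH =>
  intro hg
  by_cases hpx : p ∣ orderOf ((⟨g, hg⟩ : G) : Bar G)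
  · have hpg : p ∣ orderOf g := by
      refine hpx.trans (orderOf_dvd_of_pow_eq_one ?_)
      rw [mk_pow hg, mk_eq_one, pow_orderOf_eq_one]
      exact one_mem _
    have hlt : orderOf (g ^ p) < N := by
      rw [orderOf_pow' g (Fact.out : p.Prime).ne_zero, Nat.gcd_eq_right hpg, ← hord]
      exact Nat.div_lt_self (orderOf_pos g) (Fact.out : p.Prime).one_lt
    have h := IH _ hlt (g ^ p) rfl (pow_mem hg p)
    have e : (g ^ p) ^ s = (g ^ s) ^ p := by
      rw [← zpow_natCast, ← zpow_natCast (g ^ s), ← _root_.zpow_mul, ← _root_.zpow_mul, mul_comm]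
    rw [e] at h
    simp only [tr, Units.val_pow_eq_pow_val, trace_pow_char] at h
    refine frobenius_inj F p ?_
    rw [frobenius_def, frobenius_def]
    rwa [← pow_mul, mul_comm, pow_mul] at h
  · obtain ⟨y, hy⟩ := hconj _ hpx
    obtain ⟨k, hk, rfl⟩ := exists_rep y
    rw [mk_pow hg, mk_zpow hg] at hy
    obtain ⟨d, hd, hds, e⟩ := exists_scalar_of_conj (pow_mem hg _) hk (zpow_mem hg _) hy
    have hfin : g ^ p ^ j = g ^ s ∨ d = 1 := by
      rcases h3 with hns | ⟨hdiv, h3'⟩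
      · exact Or.inr (hns d hd hds)
      set n := orderOf ((⟨g, hg⟩ : G) : Bar G) with hn
      have hxn : ((⟨g, hg⟩ : G) : Bar G) ^ n = 1 := pow_orderOf_eq_one _
      by_cases h3n : 3 ∣ n
      · left
        obtain ⟨hdn, y', hy'⟩ := h3' _ hpx h3n
        have hgn := pow_eq_one_of_real hG hg hxn h3n hy'
        obtain ⟨t, ht⟩ := hdn
        rw [← zpow_natCast, show ((p ^ j : ℕ) : ℤ) = s + n * t by rw [hn, ← ht]; ring, _root_.zpow_add, _root_.zpow_mul,
          zpow_natCast, hgn, _root_.one_zpow, mul_one]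
      · right
        rw [mk_pow hg, mk_eq_one] at hxn
        have hc3 := scalar_cube hG (pow_mem hg n) hxn
        have hcm : (g ^ p ^ j) ^ n = (g ^ s) ^ n := by
          obtain ⟨t, ht⟩ := hdiv
          rw [← zpow_natCast g (p ^ j), show ((p ^ j : ℕ) : ℤ) = s + 3 * t by rw [← ht]; ring, _root_.zpow_add,
            (Commute.zpow_zpow_self g _ _).mul_pow, ← zpow_natCast (g ^ (3 * t)) n, ← _root_.zpow_mul,
            show 3 * t * (n : ℤ) = (n : ℤ) * 3 * t by ring, _root_.zpow_mul, _root_.zpow_mul, zpow_natCast]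
          rw [show ((g ^ n) ^ (3 : ℤ)) = 1 from (zpow_natCast (g ^ n) 3).trans hc3, _root_.one_zpow, mul_one]
        have hs' : (g ^ p ^ j) ^ n ∈ Sc := by
          rw [← pow_mul, mul_comm, pow_mul]; exact pow_mem hxn _
        have h := congrArg (· ^ n) e
        beta_reduce at h
        rw [conj_pow, ← (scalar_comm hs' k).eq, mul_inv_cancel_right, (scalar_comm hds _).mul_pow, hcm] at h
        exact scalar_eq_one hG ((Nat.Prime.coprime_iff_not_dvd Nat.prime_three).2 h3n).symm hd hds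
          (mul_eq_right.1 h.symm)
    rw [tr, ← trace_pow_char_pow p, ← Units.val_pow_eq_pow_val]
    rcases hfin with h | h
    · rw [h]
    · have h' := tr_conj k (g ^ p ^ j)
      rw [e, h, one_mul] at h'
      exact h'.symm

section Field

variable [Fintype F] (p : ℕ) [Fact p.Prime] [CharP F p]

/-- if the traces are fixed by `x ↦ x ^ p ^ j` and generate the field, all of the field is -/
theorem fixed_of_traces {P : Subgroup GL3}
    (hK : ∀ K : Subfield F, (∀ g ∈ P, tr g ∈ K) → K = ⊤) {j : ℕ} (h : ∀ g ∈ P, tr g ^ p ^ j = tr g) (x : F) :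
    x ^ p ^ j = x := by
  have := hK (RingHom.eqLocusField (iterateFrobenius F p j) (RingHom.id F)) fun g hg => by
    show iterateFrobenius F p j (tr g) = tr g
    rw [iterateFrobenius_def]; exact h g hg
  have hx : x ∈ RingHom.eqLocusField (iterateFrobenius F p j) (RingHom.id F) := by rw [this]; trivial
  rw [← iterateFrobenius_def (R := F)]; exact hx

theorem card_le_of_fixed {m : ℕ} (hm : 1 < m) (h : ∀ x : F, x ^ m = x) : Fintype.card F ≤ m := by
  classical
  have hp : (X ^ m - X : F[X]) ≠ 0 := FiniteField.X_pow_card_sub_X_ne_zero F hm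
  have hsub : (Finset.univ : Finset F).val ⊆ (X ^ m - X : F[X]).roots := fun x _ => by
    rw [mem_roots hp]; simp [IsRoot, h x]
  calc Fintype.card F = (Finset.univ : Finset F).card := rfl
    _ ≤ Multiset.card (X ^ m - X : F[X]).roots :=
      Multiset.card_le_card ((Multiset.le_iff_subset Finset.univ.nodup).2 hsub)
    _ ≤ (X ^ m - X : F[X]).natDegree := card_roots' _
    _ = m := FiniteField.X_pow_card_sub_X_natDegree_eq F hm

theorem card_eq_of_traces {P : Subgroup GL3} (hK : ∀ K : Subfield F, (∀ g ∈ P, tr g ∈ K) → K = ⊤)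
    (h : ∀ g ∈ P, tr g ^ p = tr g) : Fintype.card F = p := by
  have hp := (Fact.out : p.Prime)
  have hle := card_le_of_fixed (F := F) hp.one_lt fun x => by
    simpa using fixed_of_traces p hK (j := 1) (by simpa using h) x
  obtain ⟨n, -, hn⟩ := FiniteField.card F p
  rw [hn] at hle ⊢
  exact le_antisymm hle (Nat.le_self_pow n.ne_zero p)

theorem card_cases_of_traces {P : Subgroup GL3} (hK : ∀ K : Subfield F, (∀ g ∈ P, tr g ∈ K) → K = ⊤)
    (h : ∀ g ∈ P, tr g ^ p ^ 2 = tr g) : Fintype.card F = p ∨ Fintype.card F = p ^ 2 := by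
  have hp := (Fact.out : p.Prime)
  have hle := card_le_of_fixed (F := F) (Nat.one_lt_pow two_ne_zero hp.one_lt) (fixed_of_traces p hK h)
  obtain ⟨n, -, hn⟩ := FiniteField.card F p
  rw [hn] at hle ⊢
  have h2 := (Nat.pow_le_pow_iff_right hp.one_lt).1 hle
  have h1 : (n : ℕ) = 1 ∨ (n : ℕ) = 2 := by have := n.pos; omega
  rcases h1 with h1 | h1
  · left; rw [h1, pow_one]
  · right; rw [h1]

theorem sq_of_twist {P : Subgroup GL3} (h : ∀ g ∈ P, tr g ^ p = tr g⁻¹) :
    ∀ g ∈ P, tr g ^ p ^ 2 = tr g := fun g hg => by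
  rw [pow_two, pow_mul, h g hg, h g⁻¹ (inv_mem hg), inv_inv]

/-- in the linear residual case the Frobenius does not invert the traces -/
theorem twist_false {P : Subgroup GL3} (hK : ∀ K : Subfield F, (∀ g ∈ P, tr g ∈ K) → K = ⊤)
    (hreal : ¬ ∀ g ∈ P, tr g = tr g⁻¹)
    (hU : ∀ σ : F ≃+* F, (∀ a, σ (σ a) = a) → σ ≠ RingEquiv.refl F → ¬ ∀ g ∈ P, σ (tr g) = tr g⁻¹)
    (h : ∀ g ∈ P, tr g ^ p = tr g⁻¹) : False := by
  have hp := (Fact.out : p.Prime)
  rcases card_cases_of_traces p hK (sq_of_twist p h) with hc | hc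
  · exact hreal fun g hg => by rw [← h g hg]; conv_lhs => rw [← FiniteField.pow_card (tr g), hc]
  · refine hU (frobeniusEquiv F p) (fun a => ?_) (fun e => ?_) fun g hg => ?_
    · rw [frobeniusEquiv_apply, frobeniusEquiv_apply, frobenius_def, frobenius_def, ← pow_mul, ← pow_two, ← hc,
        FiniteField.pow_card]
    · have := card_le_of_fixed (F := F) hp.one_lt fun x => by
        simpa [frobenius_def] using RingEquiv.congr_fun e x
      have h2 : p < p ^ 2 := by rw [pow_two]; exact lt_mul_self hp.one_lt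
      omega
    · rw [frobeniusEquiv_apply, frobenius_def, h g hg]

theorem card_ne_of_sq {q : ℕ} (hF : Fintype.card F = q ^ 2) : Fintype.card F ≠ p := fun e => by
  have h := (Fact.out : p.Prime)
  rw [← e, hF] at h
  exact Nat.Prime.not_prime_pow le_rfl h

theorem eq_of_traces {q : ℕ} (hF : Fintype.card F = q ^ 2) {P : Subgroup GL3}
    (hK : ∀ K : Subfield F, (∀ g ∈ P, tr g ∈ K) → K = ⊤) (h : ∀ g ∈ P, tr g ^ p ^ 2 = tr g) : q = p := by
  rcases card_cases_of_traces p hK h with hc | hc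
  · exact absurd hc (card_ne_of_sq p hF)
  · exact Nat.pow_left_injective two_ne_zero (hF.symm.trans hc)

end Field

end Cfsg.Agent.PSLThree.Rep
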