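import Cfsg.Agent.Lib.PSLThree.Rep.Descent

/-!
# Traces and invariant forms of absolutely irreducible groups

* `exists_unitary`: if an automorphism of order two maps every trace to the trace of the inverse, a unitary
  form is fixed.
* `exists_quadratic`: in odd dimension and odd characteristic, real traces give a quadratic form.
* `false_of_real_char_two`: in dimension three and characteristic two the traces are not all real.
-/

set_option autoImplicit false

namespace Cfsg.Agent.PSLThree.Rep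

open Matrix
open Cfsg.Geo (matrixSet ActsAbsolutelyIrreducibly IsUnitaryForm IsNondegenerateQuadraticForm FixesForm
  FixesQuadForm IsResidualCore InLinearResidualClass InUnitaryResidualClass IsBilinearForm IsNondegenerateForm)

variable {F : Type*} [Field F] {ι : Type} [Fintype ι] [DecidableEq ι]

/-- The conjugate dual representation. -/
def dual (σ : F ≃+* F) (P : Subgroup (GL ι F)) : ↥P →* Matrix ι ι F where
  toFun x := ((((x : GL ι F)⁻¹ : GL ι F) : Matrix ι ι F).map σ)ᵀ
  map_one' := by simp [Matrix.map_one]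
  map_mul' x y := by
    rw [Subgroup.coe_mul, _root_.mul_inv_rev, Units.val_mul, Matrix.map_mul, transpose_mul]

theorem dual_apply (σ : F ≃+* F) (P : Subgroup (GL ι F)) (x : ↥P) :
    dual σ P x = (((((x : GL ι F)⁻¹ : GL ι F)) : Matrix ι ι F).map σ)ᵀ := rfl

theorem trace_map_equiv (σ : F ≃+* F) (M : Matrix ι ι F) :
    Matrix.trace (M.map σ) = σ (Matrix.trace M) := by
  simp [Matrix.trace]

/-- An absolutely irreducible group with `σ (tr g) = tr g⁻¹` fixes a sesquilinear form. -/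
theorem exists_form [Nonempty ι] (P : Subgroup (GL ι F)) (hirr : ActsAbsolutelyIrreducibly (matrixSet P))
    (σ : F ≃+* F) (hinv : ∀ a, σ (σ a) = a)
    (htr : ∀ g ∈ P, σ (Matrix.trace (g : Matrix ι ι F)) = Matrix.trace ((g⁻¹ : GL ι F) : Matrix ι ι F)) :
    ∃ (J : GL ι F) (c : F), c * σ c = 1 ∧ ((J : Matrix ι ι F).map σ)ᵀ = c • (J : Matrix ι ι F) ∧
      ∀ g ∈ P, ((g : Matrix ι ι F).map σ)ᵀ * J * (g : Matrix ι ι F) = J := by
  classical
  have hspan := span_range_incl P hirr
  have hspan' : Submodule.span F (Set.range (dual σ P)) = ⊤ := by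
    refine eq_top_iff.2 fun M _ => ?_
    have hM : M = ((Mᵀ.map σ).map σ)ᵀ := by ext i j; simp [hinv]
    rw [hM]
    generalize Mᵀ.map σ = N
    have hN : N ∈ Submodule.span F (Set.range (incl P)) := by rw [hspan]; trivial
    induction hN using Submodule.span_induction with
    | mem x hx =>
      obtain ⟨g, rfl⟩ := hx
      refine Submodule.subset_span ⟨g⁻¹, ?_⟩
      rw [dual_apply, Subgroup.coe_inv, inv_inv]
      rfl
    | zero => rw [Matrix.map_zero _ (map_zero σ), transpose_zero]; exact zero_mem _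
    | add x y _ _ hx hy => rw [Matrix.map_add _ (map_add σ), transpose_add]; exact add_mem hx hy
    | smul c x _ hx =>
      rw [show (c • x).map σ = σ c • x.map σ by ext i j; simp, transpose_smul]
      exact Submodule.smul_mem _ _ hx
  have ht : ∀ x, Matrix.trace (incl P x) = Matrix.trace (dual σ P x) := fun x => by
    rw [dual_apply, trace_transpose, trace_map_equiv, ← htr x x.2, hinv]
    rfl
  obtain ⟨J, hJ⟩ := exists_conj_of_trace (incl P) (dual σ P) hspan hspan' ht
  have hfix : ∀ g ∈ P, ((g : Matrix ι ι F).map σ)ᵀ * J * (g : Matrix ι ι F) = J := fun g hg => by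
    have h := congrArg (fun M => ((g : Matrix ι ι F).map σ)ᵀ * M * (J : Matrix ι ι F)) (hJ ⟨g, hg⟩)
    beta_reduce at h
    rw [dual_apply, ← transpose_mul, ← Matrix.map_mul, Units.inv_mul, Matrix.map_one _ (map_zero σ) (map_one σ),
      transpose_one, one_mul] at h
    conv_rhs => rw [h]
    rw [show incl P ⟨g, hg⟩ = (g : Matrix ι ι F) from rfl, ← mul_assoc, ← mul_assoc,
      mul_assoc _ ((J⁻¹ : GL ι F) : Matrix ι ι F), Units.inv_mul, mul_one]
  set J' := ((J : Matrix ι ι F).map σ)ᵀ with hJ'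
  have hfix' : ∀ g ∈ P, ((g : Matrix ι ι F).map σ)ᵀ * J' * (g : Matrix ι ι F) = J' := fun g hg => by
    have h := congrArg (fun M : Matrix ι ι F => (M.map σ)ᵀ) (hfix g hg)
    simp only [Matrix.map_mul, transpose_mul] at h
    rwa [transpose_map, transpose_transpose, Matrix.map_map,
      show σ ∘ σ = id from funext hinv, Matrix.map_id, ← mul_assoc, ← hJ'] at h
  obtain ⟨c, hc⟩ := hirr.2 (((J⁻¹ : GL ι F) : Matrix ι ι F) * J') fun s hs => by
    obtain ⟨g, hg, rfl⟩ := hs
    show ((J⁻¹ : GL ι F) : Matrix ι ι F) * J' * (g : Matrix ι ι F) =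
      (g : Matrix ι ι F) * (((J⁻¹ : GL ι F) : Matrix ι ι F) * J')
    have hA : IsUnit ((g : Matrix ι ι F).map σ)ᵀ := by
      rw [Matrix.isUnit_transpose]
      exact g.isUnit.map σ.toRingHom.mapMatrix
    refine J.isUnit.mul_left_cancel (hA.mul_left_cancel ?_)
    rw [← mul_assoc (J : Matrix ι ι F), ← mul_assoc (J : Matrix ι ι F), Units.mul_inv, one_mul, ← mul_assoc,
      hfix' g hg, ← mul_assoc, ← mul_assoc, ← mul_assoc, hfix g hg, Units.mul_inv, one_mul]
  have hJc : J' = c • (J : Matrix ι ι F) := by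
    have h := congrArg (fun M => (J : Matrix ι ι F) * M) hc
    simpa [← mul_assoc] using h
  refine ⟨J, c, ?_, hJc, hfix⟩
  have h : (J'.map σ)ᵀ = σ c • J' := by
    rw [hJc, show (c • (J : Matrix ι ι F)).map σ = σ c • (J : Matrix ι ι F).map σ by ext i j; simp,
      transpose_smul, ← hJ', hJc]
  rw [hJ', transpose_map, transpose_transpose, Matrix.map_map, show σ ∘ σ = id from funext hinv,
    Matrix.map_id, ← hJ', hJc, smul_smul] at h
  by_contra hne
  obtain ⟨i⟩ := ‹Nonempty ι›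
  have hzero : (J : Matrix ι ι F) = 0 := by
    have h' : (c * σ c - 1) • (J : Matrix ι ι F) = 0 := by rw [sub_smul, one_smul, mul_comm, ← h, sub_self]
    exact (smul_eq_zero.1 h').resolve_left (sub_ne_zero.2 hne)
  have h1 := Units.inv_mul J
  rw [hzero, mul_zero] at h1
  simpa using congrFun (congrFun h1 i) i

theorem exists_unitary [Nonempty ι] (P : Subgroup (GL ι F)) (hirr : ActsAbsolutelyIrreducibly (matrixSet P))
    (σ : F ≃+* F) (hinv : ∀ a, σ (σ a) = a) (hne : σ ≠ RingEquiv.refl F)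
    (htr : ∀ g ∈ P, σ (Matrix.trace (g : Matrix ι ι F)) = Matrix.trace ((g⁻¹ : GL ι F) : Matrix ι ι F)) :
    ∃ f : (ι → F) → (ι → F) → F, IsUnitaryForm σ f ∧ FixesForm (matrixSet P) f := by
  classical
  obtain ⟨J, c, hc, hJc, hfix⟩ := exists_form P hirr σ hinv htr
  obtain ⟨a, ha0, ha⟩ : ∃ a : F, a ≠ 0 ∧ σ a * c = a := by
    by_cases h1 : c = -1
    · obtain ⟨b, hb⟩ : ∃ b, σ b ≠ b := by
        by_contra hb; push_neg at hb; exact hne (RingEquiv.ext hb)
      refine ⟨b - σ b, sub_ne_zero.2 (Ne.symm hb), ?_⟩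
      rw [map_sub, hinv, h1]; ring
    · refine ⟨1 + c, fun h => h1 (eq_neg_of_add_eq_zero_right h), ?_⟩
      rw [map_add, map_one, add_mul, one_mul, mul_comm (σ c), hc, add_comm]
  set K : Matrix ι ι F := a • (J : Matrix ι ι F) with hKdef
  have hK : (K.map σ)ᵀ = K := by
    rw [hKdef, show (a • (J : Matrix ι ι F)).map σ = σ a • (J : Matrix ι ι F).map σ by ext i j; simp,
      transpose_smul, hJc, smul_smul, ha]
  have hKfix : ∀ g ∈ P, ((g : Matrix ι ι F).map σ)ᵀ * K * (g : Matrix ι ι F) = K := fun g hg => by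
    rw [hKdef, Matrix.mul_smul, Matrix.smul_mul, hfix g hg]
  have hKu : IsUnit K := by
    rw [Matrix.isUnit_iff_isUnit_det, hKdef, det_smul]
    exact (isUnit_iff_ne_zero.2 (pow_ne_zero _ ha0)).mul (J.isUnit.map Matrix.detMonoidHom)
  have hherm : ∀ v w, (σ ∘ w) ⬝ᵥ (K *ᵥ v) = σ ((σ ∘ v) ⬝ᵥ (K *ᵥ w)) := fun v w => by
    have h1 : σ ((σ ∘ v) ⬝ᵥ (K *ᵥ w)) = v ⬝ᵥ (K.map σ *ᵥ (σ ∘ w)) := by
      rw [dotProduct, map_sum]
      refine Finset.sum_congr rfl fun i _ => ?_
      rw [map_mul, Function.comp_apply, hinv, show σ ((K *ᵥ w) i) = (K.map σ *ᵥ (σ ∘ w)) i from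
        RingHom.map_mulVec σ.toRingHom K w i]
    rw [h1, dotProduct_mulVec v, ← mulVec_transpose, hK, dotProduct_comm]
  have hnd : ∀ v : ι → F, v ≠ 0 → ∃ x, (σ ∘ v) ⬝ᵥ (K *ᵥ x) ≠ 0 := fun v hv => by
    by_contra h
    push_neg at h
    have h2 : σ ∘ v = 0 := by
      have h3 : (σ ∘ v) ᵥ* K = 0 := funext fun i => by
        have h4 := h (Pi.single i 1)
        rwa [dotProduct_mulVec, dotProduct_single, mul_one] at h4
      exact (Matrix.vecMul_injective_of_isUnit hKu) (h3.trans (Matrix.zero_vecMul _).symm)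
    exact hv (funext fun i => σ.injective (by simpa using congrFun h2 i))
  refine ⟨fun u v => (σ ∘ v) ⬝ᵥ (K *ᵥ u),
    ⟨hne, hinv, fun x y v => by rw [mulVec_add, dotProduct_add],
      fun d x v => by rw [mulVec_smul, dotProduct_smul, smul_eq_mul], hherm, fun v hv => ?_⟩, ?_⟩
  · obtain ⟨x, hx⟩ := hnd v hv
    exact ⟨⟨x, hx⟩, ⟨x, fun h => hx (by rw [hherm x v, h, map_zero])⟩⟩
  · rintro _ ⟨g, hg, rfl⟩ u v
    show (σ ∘ ((g : Matrix ι ι F) *ᵥ v)) ⬝ᵥ (K *ᵥ ((g : Matrix ι ι F) *ᵥ u)) = _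
    rw [show σ ∘ ((g : Matrix ι ι F) *ᵥ v) = (g : Matrix ι ι F).map σ *ᵥ (σ ∘ v) from
        funext fun i => RingHom.map_mulVec σ.toRingHom _ v i,
      mulVec_mulVec, ← vecMul_transpose, ← dotProduct_mulVec, mulVec_mulVec, ← mul_assoc, hKfix g hg]

omit [DecidableEq ι] in
theorem dot_symm {J : Matrix ι ι F} (hJ : Jᵀ = J) (u v : ι → F) : u ⬝ᵥ (J *ᵥ v) = v ⬝ᵥ (J *ᵥ u) := by
  rw [dotProduct_mulVec, ← mulVec_transpose, hJ, dotProduct_comm]

/-- Real traces in odd dimension give a symmetric invariant matrix. -/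
theorem exists_symm (hodd : Odd (Fintype.card ι)) (P : Subgroup (GL ι F))
    (hirr : ActsAbsolutelyIrreducibly (matrixSet P))
    (htr : ∀ g ∈ P, Matrix.trace (g : Matrix ι ι F) = Matrix.trace ((g⁻¹ : GL ι F) : Matrix ι ι F)) :
    ∃ J : GL ι F, (J : Matrix ι ι F)ᵀ = J ∧
      ∀ g ∈ P, (g : Matrix ι ι F)ᵀ * J * (g : Matrix ι ι F) = J := by
  classical
  haveI : Nonempty ι := Fintype.card_pos_iff.1 hodd.pos
  obtain ⟨J, c, hc, hJc, hfix⟩ := exists_form P hirr (RingEquiv.refl F) (fun _ => rfl) htr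
  simp only [RingEquiv.coe_refl, Matrix.map_id, id_eq] at hc hJc hfix
  refine ⟨J, ?_, hfix⟩
  have hdet : (J : Matrix ι ι F).det ≠ 0 :=
    ((Matrix.isUnit_iff_isUnit_det _).1 J.isUnit).ne_zero
  have h := congrArg Matrix.det hJc
  rw [det_transpose, det_smul] at h
  have hcn : c ^ Fintype.card ι = 1 := (mul_eq_right₀ hdet).1 h.symm
  obtain ⟨k, hk⟩ := hodd
  rw [hk, pow_succ, pow_mul, sq, hc, one_pow, one_mul] at hcn
  rw [hJc, hcn, one_smul]

/-- Odd dimension, odd characteristic, real traces: a quadratic form is fixed. -/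
theorem exists_quadratic (hodd : Odd (Fintype.card ι)) (h2 : (2 : F) ≠ 0) (P : Subgroup (GL ι F))
    (hirr : ActsAbsolutelyIrreducibly (matrixSet P))
    (htr : ∀ g ∈ P, Matrix.trace (g : Matrix ι ι F) = Matrix.trace ((g⁻¹ : GL ι F) : Matrix ι ι F)) :
    ∃ Q : (ι → F) → F, IsNondegenerateQuadraticForm Q ∧ FixesQuadForm (matrixSet P) Q := by
  classical
  obtain ⟨J, hJ, hfix⟩ := exists_symm hodd P hirr htr
  let Q : (ι → F) → F := fun v => v ⬝ᵥ ((J : Matrix ι ι F) *ᵥ v)
  have hpol : ∀ u v, QuadraticMap.polar Q u v = 2 * (u ⬝ᵥ ((J : Matrix ι ι F) *ᵥ v)) := fun u v => by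
    simp only [QuadraticMap.polar, Q, mulVec_add, add_dotProduct, dotProduct_add]
    rw [dot_symm hJ v u]; ring
  refine ⟨Q, ⟨fun c v => ?_, ⟨?_, ?_, ?_, ?_⟩, fun v hv => ?_⟩, ?_⟩
  · simp only [Q, mulVec_smul, smul_dotProduct, dotProduct_smul, smul_eq_mul]; ring
  · intro x y v; simp only [hpol, add_dotProduct]; ring
  · intro d x v; simp only [hpol, smul_dotProduct, smul_eq_mul]; ring
  · intro v x y; simp only [hpol, mulVec_add, dotProduct_add]; ring
  · intro d v x; simp only [hpol, mulVec_smul, dotProduct_smul, smul_eq_mul]; ring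
  · obtain ⟨i, hi⟩ : ∃ i, (v ᵥ* (J : Matrix ι ι F)) i ≠ 0 := by
      by_contra h
      push_neg at h
      exact hv (Matrix.vecMul_injective_of_isUnit J.isUnit
        ((funext h : v ᵥ* (J : Matrix ι ι F) = 0).trans (Matrix.zero_vecMul _).symm))
    have h1 : v ⬝ᵥ ((J : Matrix ι ι F) *ᵥ Pi.single i 1) ≠ 0 := by
      rwa [dotProduct_mulVec, dotProduct_single, mul_one]
    exact ⟨⟨Pi.single i 1, by rw [hpol, dot_symm hJ]; exact mul_ne_zero h2 h1⟩,
      ⟨Pi.single i 1, by rw [hpol]; exact mul_ne_zero h2 h1⟩⟩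
  · rintro _ ⟨g, hg, rfl⟩ v
    show ((g : Matrix ι ι F) *ᵥ v) ⬝ᵥ ((J : Matrix ι ι F) *ᵥ ((g : Matrix ι ι F) *ᵥ v)) = _
    rw [mulVec_mulVec, ← vecMul_transpose, ← dotProduct_mulVec, mulVec_mulVec, ← mul_assoc, hfix g hg]

section Three

variable [Fintype F]

/-- In dimension three and characteristic two the traces of an absolutely irreducible group are not all real. -/
theorem false_of_real_char_two (h2 : (2 : F) = 0) (P : Subgroup (GL (Fin 3) F))
    (hirr : ActsAbsolutelyIrreducibly (matrixSet P))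
    (htr : ∀ g ∈ P, Matrix.trace (g : Matrix (Fin 3) (Fin 3) F) =
      Matrix.trace ((g⁻¹ : GL (Fin 3) F) : Matrix (Fin 3) (Fin 3) F)) : False := by
  classical
  obtain ⟨J, hJ, hfix⟩ := exists_symm (by decide) P hirr htr
  set M : Matrix (Fin 3) (Fin 3) F := (J : Matrix (Fin 3) (Fin 3) F) with hM
  let f : (Fin 3 → F) → F := fun v => v ⬝ᵥ (M *ᵥ v)
  have hadd : ∀ u v, f (u + v) = f u + f v := fun u v => by
    simp only [f, mulVec_add, add_dotProduct, dotProduct_add]
    rw [dot_symm hJ v u]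
    linear_combination (u ⬝ᵥ (M *ᵥ v)) * h2
  let W : Submodule F (Fin 3 → F) :=
    { carrier := {v | f v = 0}
      add_mem' := fun {u v} hu hv => by
        show f (u + v) = 0
        rw [hadd, show f u = 0 from hu, show f v = 0 from hv, add_zero]
      zero_mem' := by show f 0 = 0; simp [f]
      smul_mem' := fun c v hv => by
        show f (c • v) = 0
        have : f v = 0 := hv
        simp only [f, mulVec_smul, smul_dotProduct, dotProduct_smul, smul_eq_mul] at this ⊢
        rw [this]; ring }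
  rcases hirr.1 W (by
    rintro _ ⟨g, hg, rfl⟩ _ ⟨v, hv, rfl⟩
    show f (Matrix.toLin' (g : Matrix (Fin 3) (Fin 3) F) v) = 0
    have hv' : f v = 0 := hv
    rw [toLin'_apply]
    simp only [f] at hv' ⊢
    rw [mulVec_mulVec, ← vecMul_transpose, ← dotProduct_mulVec, mulVec_mulVec, ← mul_assoc, hM, hfix g hg]
    exact hv') with hb | ht
  · have hinj : Function.Injective f := fun u v huv => by
      have h1 : f (u + v) = 0 := by rw [hadd, huv]; linear_combination (f v) * h2
      have h3 : u + v ∈ (⊥ : Submodule F (Fin 3 → F)) := hb ▸ (show u + v ∈ W from h1)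
      rw [Submodule.mem_bot] at h3
      funext i
      have := congrFun h3 i
      simp only [Pi.add_apply, Pi.zero_apply] at this
      linear_combination this - (v i) * h2
    have h := Fintype.card_le_of_injective f hinj
    rw [Fintype.card_fun, Fintype.card_fin] at h
    exact absurd h (not_le.2 (lt_self_pow₀ Fintype.one_lt_card (by norm_num)))
  · have hd : ∀ i, M i i = 0 := fun i => by
      have hm : Pi.single i (1 : F) ∈ W := by rw [ht]; trivial
      have h : f (Pi.single i 1) = 0 := hm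
      simpa [f] using h
    have hs : ∀ i j, M j i = M i j := fun i j => congrFun (congrFun hJ i) j
    refine ((Matrix.isUnit_iff_isUnit_det _).1 J.isUnit).ne_zero ?_
    rw [← hM, det_fin_three, hd, hd, hd, hs 0 1, hs 0 2, hs 1 2]
    linear_combination (M 0 1 * M 1 2 * M 0 2) * h2

/-- The linear residual class: the traces are not all real. -/
theorem not_real_of_no_quadratic {P : Subgroup (GL (Fin 3) F)} (hirr : ActsAbsolutelyIrreducibly (matrixSet P))
    (hQ : ¬ ∃ Q : (Fin 3 → F) → F, IsNondegenerateQuadraticForm Q ∧ FixesQuadForm (matrixSet P) Q) :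
    ¬ ∀ g ∈ P, Matrix.trace (g : Matrix (Fin 3) (Fin 3) F) =
      Matrix.trace ((g⁻¹ : GL (Fin 3) F) : Matrix (Fin 3) (Fin 3) F) := fun htr => by
  by_cases h2 : (2 : F) = 0
  · exact false_of_real_char_two h2 P hirr htr
  · exact hQ (exists_quadratic (by decide) h2 P hirr htr)

/-- The trace conditions on the core of a residual subgroup, linear case. -/
theorem linear_traces {H : Subgroup (GL (Fin 3) F)} (hS : InLinearResidualClass H) :
    ∃ P, IsResidualCore H P ∧
      (∀ K : Subfield F, (∀ g ∈ P, Matrix.trace (g : Matrix (Fin 3) (Fin 3) F) ∈ K) → K = ⊤) ∧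
      (¬ ∀ g ∈ P, Matrix.trace (g : Matrix (Fin 3) (Fin 3) F) =
        Matrix.trace ((g⁻¹ : GL (Fin 3) F) : Matrix (Fin 3) (Fin 3) F)) ∧
      (∀ σ : F ≃+* F, (∀ a, σ (σ a) = a) → σ ≠ RingEquiv.refl F →
        ¬ ∀ g ∈ P, σ (Matrix.trace (g : Matrix (Fin 3) (Fin 3) F)) =
          Matrix.trace ((g⁻¹ : GL (Fin 3) F) : Matrix (Fin 3) (Fin 3) F)) := by
  obtain ⟨P, hP, hQ, -, hU⟩ := hS
  refine ⟨P, hP, fun K hK => by_contra fun h => trace_not_subfield hP K h hK,
    not_real_of_no_quadratic hP.absIrred hQ, fun σ hinv hne htr => ?_⟩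
  obtain ⟨f, hf, hfix⟩ := exists_unitary P hP.absIrred σ hinv hne htr
  exact hU ⟨σ, f, hf, hfix⟩

/-- The trace conditions on the core of a residual subgroup, unitary case. -/
theorem unitary_traces {H : Subgroup (GL (Fin 3) F)} (hS : InUnitaryResidualClass H) :
    ∃ P, IsResidualCore H P ∧
      (∀ K : Subfield F, (∀ g ∈ P, Matrix.trace (g : Matrix (Fin 3) (Fin 3) F) ∈ K) → K = ⊤) ∧
      (¬ ∀ g ∈ P, Matrix.trace (g : Matrix (Fin 3) (Fin 3) F) =
        Matrix.trace ((g⁻¹ : GL (Fin 3) F) : Matrix (Fin 3) (Fin 3) F)) := by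
  obtain ⟨P, hP, hQ, -⟩ := hS
  exact ⟨P, hP, fun K hK => by_contra fun h => trace_not_subfield hP K h hK,
    not_real_of_no_quadratic hP.absIrred hQ⟩

end Three

/-- In the unitary group the trace of the inverse is the conjugate trace. -/
theorem trace_inv_of_mem_GU {n q : ℕ} (hq : q ≠ 0) (σ : F →+* F) (hσ : ∀ x, σ x = x ^ q)
    {g : GL (Fin n) F} (hg : g ∈ Cfsg.GU n F q) :
    Matrix.trace ((g⁻¹ : GL (Fin n) F) : Matrix (Fin n) (Fin n) F) =
      Matrix.trace (g : Matrix (Fin n) (Fin n) F) ^ q := by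
  classical
  set M : Matrix (Fin n) (Fin n) F := (g : Matrix (Fin n) (Fin n) F) with hM
  have h : Mᵀ * M.map σ = 1 := by
    ext i j
    have h1 : Cfsg.hermForm n F q (M *ᵥ Pi.single i 1) (M *ᵥ Pi.single j 1) =
      Cfsg.hermForm n F q (Pi.single i 1) (Pi.single j 1) := hg _ _
    simpa [Cfsg.hermForm, Matrix.mul_apply, Matrix.mulVec_single, hσ, Matrix.one_apply, Pi.single_apply,
      zero_pow hq, ite_pow, eq_comm] using h1
  have h' : M.map σ * Mᵀ = 1 := mul_eq_one_comm.1 h
  have hinv : ((g⁻¹ : GL (Fin n) F) : Matrix (Fin n) (Fin n) F) = (M.map σ)ᵀ := by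
    refine Units.inv_eq_of_mul_eq_one_right ?_
    have h2 := congrArg Matrix.transpose h'
    rwa [transpose_mul, transpose_transpose, transpose_one] at h2
  rw [hinv, trace_transpose, ← hσ]
  simp [Matrix.trace]

end Cfsg.Agent.PSLThree.Rep
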