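import Cfsg.Agent.Lib.PSLThree.Small.Lifts
import Cfsg.Agent.S2086

/-!
# A perfect core of type `PSL₂` contains no scalars
-/

set_option autoImplicit false

namespace Cfsg.Agent.PSLThree.Rep

open Cfsg.Agent.PSLThree.Small (NoScalar)

variable {F : Type*} [Field F] [Finite F] {P : Subgroup (GL (Fin 3) F)}

theorem noScalar_of_psl (hle : P ≤ Cfsg.Geo.specialLinear (Fin 3) F) (hperf : ⁅P, P⁆ = P)
    {K : Type} [Field K] [Fintype K] (h5 : 5 ≤ Fintype.card K) (h9 : Fintype.card K ≠ 9)
    (e : Bar P ≃* Matrix.ProjectiveSpecialLinearGroup (Fin 2) K) : NoScalar P := by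
  classical
  intro x hx hs
  have hM := Cfsg.Agent.S2086.result (F := K) rfl 2 le_rfl (fun _ => by omega) (by
    simp only [Set.mem_insert_iff, Set.mem_singleton_iff, Prod.mk.injEq, not_or]
    omega)
  haveI : Small.{0} ↥P := inferInstance
  haveI : Finite (Shrink.{0} ↥P) := Finite.of_equiv _ (equivShrink.{0} ↥P)
  let ε : Shrink.{0} ↥P ≃* ↥P := Shrink.mulEquiv
  let σ : Shrink.{0} ↥P →* Matrix.ProjectiveSpecialLinearGroup (Fin 2) K :=
    e.toMonoidHom.comp ((QuotientGroup.mk' _).comp ε.toMonoidHom)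
  have hker : ∀ a, a ∈ σ.ker ↔ ((ε a : ↥P) : GL (Fin 3) F) ∈ Cfsg.Geo.scalars (Fin 3) F := fun a => by
    rw [MonoidHom.mem_ker]
    show e (QuotientGroup.mk (ε a)) = 1 ↔ _
    rw [map_eq_one_iff e e.injective, QuotientGroup.eq_one_iff, Subgroup.mem_subgroupOf]
  have hcomm : commutator (Shrink.{0} ↥P) = ⊤ := by
    have hP : commutator ↥P = ⊤ := by
      apply Subgroup.map_injective (f := P.subtype) Subtype.coe_injective
      rw [Subgroup.map_subtype_commutator, hperf, ← MonoidHom.range_eq_map, Subgroup.range_subtype]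
    apply Subgroup.map_injective (f := ε.toMonoidHom) ε.injective
    rw [commutator_def, Subgroup.map_commutator, Subgroup.map_top_of_surjective _ ε.surjective, ← commutator_def, hP]
  have hst : Cfsg.IsStemExtension σ := by
    refine ⟨e.surjective.comp ((QuotientGroup.mk'_surjective _).comp ε.surjective), fun a ha => ?_,
      by rw [hcomm]; exact le_top⟩
    rw [Subgroup.mem_center_iff]
    intro b
    apply ε.injective
    rw [map_mul, map_mul]
    exact Subtype.ext (scalar_comm ((hker a).1 ha) _).symm.eq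
  obtain ⟨π, hπ⟩ := hM.2 (Shrink.{0} ↥P) σ hst
  have hmem : ε.symm ⟨x, hx⟩ ∈ σ.ker := by rw [hker, MulEquiv.apply_symm_apply]; exact hs
  obtain ⟨a, ha⟩ := hπ ⟨_, hmem⟩
  have hd := Nat.gcd_dvd_left 2 (Fintype.card K - 1)
  have h2 : a ^ 2 = 1 := by
    apply Multiplicative.toAdd.injective
    rw [toAdd_pow, toAdd_one, nsmul_eq_mul, (ZMod.natCast_eq_zero_iff _ _).2 hd, zero_mul]
  have h : x ^ 2 = 1 := by
    have := congrArg (fun b : σ.ker => ((ε (b : Shrink.{0} ↥P) : ↥P) : GL (Fin 3) F)) (congrArg π h2)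
    simpa [ha] using this
  exact scalar_eq_one hle (n := 2) (by norm_num) hx hs h

end Cfsg.Agent.PSLThree.Rep
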