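import Cfsg.Agent.Lib.PSLThree.Rep.Small
import Cfsg.Agent.Lib.Classical.Linear
import Cfsg.Agent.Lib.Forms.HermStd
import Cfsg.Agent.S0495

/-!
# The cores without transvections under the residual conditions

`linear_small` and `unitary_small`: a core of `SmallType` subject to the trace conditions of the linear,
resp. unitary, residual class is `L₃(2)`, `A₆` (or `A₇` for the unitary group over 25 elements), with the
congruences of the classification.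
-/

set_option autoImplicit false

namespace Cfsg.Agent.PSLThree.Rep

open Matrix

variable {F : Type*} [Field F] [Fintype F] {P : Subgroup (GL (Fin 3) F)}

theorem psl_three_two {K : Type} [Field K] [Fintype K] (h7 : Fintype.card K = 7) :
    Nonempty (Matrix.ProjectiveSpecialLinearGroup (Fin 2) K ≃*
      Matrix.ProjectiveSpecialLinearGroup (Fin 3) (ZMod 2)) := by
  haveI : Fact (Nat.Prime 2) := ⟨Nat.prime_two⟩
  have hcard := Classical.Linear.gcd_mul_natCard_PSL_fin (F := ZMod 2) (show 1 ≤ 3 by omega)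
  have hSL := Classical.Linear.mul_natCard_SL_fin (F := ZMod 2) (show 1 ≤ 3 by omega)
  rw [ZMod.card, Fin.prod_univ_three] at hSL
  rw [ZMod.card] at hcard
  norm_num at hSL hcard
  haveI : IsSimpleGroup (Matrix.ProjectiveSpecialLinearGroup (Fin 3) (ZMod 2)) :=
    Classical.Linear.isSimpleGroup_PSL (by simp)
  obtain ⟨e⟩ := Cfsg.Agent.S0495.result (G := Matrix.ProjectiveSpecialLinearGroup (Fin 3) (ZMod 2))
    (by rw [Nat.card_eq_fintype_card]; omega) (F := K) h7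
  exact ⟨e.symm⟩

theorem seven_mod {p : ℕ} (hp : p.Prime) :
    p = 7 ∨ (p % 7 = 1 ∨ p % 7 = 2 ∨ p % 7 = 4) ∨ (p % 7 = 3 ∨ p % 7 = 5 ∨ p % 7 = 6) := by
  by_cases h : p % 7 = 0
  · exact Or.inl ((Nat.prime_dvd_prime_iff_eq (by norm_num) hp).1 (Nat.dvd_of_mod_eq_zero h)).symm
  · omega

theorem five_mod {p : ℕ} (hp : p.Prime) :
    (p = 5 ∨ p % 5 = 1 ∨ p % 5 = 4) ∨ (p ≠ 5 ∧ (p % 5 = 2 ∨ p % 5 = 3)) := by
  by_cases h : p % 5 = 0
  · exact Or.inl (Or.inl ((Nat.prime_dvd_prime_iff_eq (by norm_num) hp).1 (Nat.dvd_of_mod_eq_zero h)).symm)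
  · omega

/-- the trace relation inside a unitary group -/
theorem twist_of_le_GU {q : ℕ} (hF : Fintype.card F = q ^ 2) (hP : P ≤ Cfsg.GU 3 F q) :
    ∀ g ∈ P, tr g ^ q = tr g⁻¹ := fun _ hg =>
  (trace_inv_of_mem_GU (by have := Forms.HermStd.one_lt_q hF; omega) (Forms.HermStd.qHom hF)
    (fun x => Forms.HermStd.qHom_apply hF x) (hP hg)).symm

variable (p : ℕ) [Fact p.Prime] [CharP F p] (hle : P ≤ Cfsg.Geo.specialLinear (Fin 3) F)
include hle

/-- the relations for `A₆` in characteristic other than three -/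
theorem six_cases (h3 : p ≠ 3) (e : Bar P ≃* alternatingGroup (Fin 6)) :
    (p % 3 = 1 ∧ (p = 5 ∨ p % 5 = 1 ∨ p % 5 = 4) ∧ ∀ g ∈ P, tr g ^ p = tr g) ∨
    (p % 3 = 2 ∧ (p = 5 ∨ p % 5 = 1 ∨ p % 5 = 4) ∧ ∀ g ∈ P, tr g ^ p = tr g⁻¹) ∨
    ((p % 5 = 2 ∨ p % 5 = 3) ∧ ∀ g ∈ P, tr g ^ p ^ 2 = tr g) := by
  have hp := (Fact.out : p.Prime)
  have h30 : p % 3 ≠ 0 := fun h =>
    h3 ((Nat.prime_dvd_prime_iff_eq Nat.prime_three hp).1 (Nat.dvd_of_mod_eq_zero h)).symm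
  rcases five_mod hp with h5 | ⟨-, h5⟩
  · rcases (show p % 3 = 1 ∨ p % 3 = 2 by omega) with h | h
    · refine Or.inl ⟨h, h5, fun g hg => ?_⟩
      have := six_rel p hle e (j := 1) (s := 1) (Or.inl rfl) (by rw [pow_one]; omega) (by rwa [pow_one]) g hg
      simpa using this
    · refine Or.inr (Or.inl ⟨h, h5, fun g hg => ?_⟩)
      have := six_rel p hle e (j := 1) (s := -1) (Or.inr rfl) (by rw [pow_one]; omega) (by rwa [pow_one]) g hg
      simpa using this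
  · refine Or.inr (Or.inr ⟨h5, fun g hg => ?_⟩)
    have h9 : p ^ 2 % 3 = 1 := by
      rw [Nat.pow_mod]; rcases (show p % 3 = 1 ∨ p % 3 = 2 by omega) with h | h <;> rw [h]
    have h25 : p ^ 2 % 5 = 4 := by rw [Nat.pow_mod]; rcases h5 with h | h <;> rw [h]
    have := six_rel p hle e (j := 2) (s := 1) (Or.inl rfl) (by omega) (Or.inr (Or.inr h25)) g hg
    simpa using this

variable (hK : ∀ K : Subfield F, (∀ g ∈ P, tr g ∈ K) → K = ⊤) (hreal : ¬ ∀ g ∈ P, tr g = tr g⁻¹)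
  (hperf : ⁅P, P⁆ = P)
include hK hreal

section Linear

variable (hU : ∀ σ : F ≃+* F, (∀ a, σ (σ a) = a) → σ ≠ RingEquiv.refl F → ¬ ∀ g ∈ P, σ (tr g) = tr g⁻¹)
include hU

theorem linear_six (e : Bar P ≃* alternatingGroup (Fin 6)) :
    (Fintype.card F = p ∧ (p % 15 = 1 ∨ p % 15 = 4)) ∨
      (Fintype.card F = p ^ 2 ∧ p ≠ 3 ∧ (p % 5 = 2 ∨ p % 5 = 3)) := by
  by_cases h3 : p = 3
  · exact absurd (six_real p hle h3 e) hreal
  rcases six_cases p hle h3 e with ⟨h, h5, ht⟩ | ⟨-, -, ht⟩ | ⟨h5, ht⟩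
  · refine Or.inl ⟨card_eq_of_traces p hK ht, ?_⟩
    rcases h5 with h5 | h5
    · omega
    · omega
  · exact (twist_false p hK hreal hU ht).elim
  · rcases card_cases_of_traces p hK ht with hc | hc
    · obtain ⟨g, -, -, hg⟩ := six_five p hle e h5
      exact absurd (by rw [← hc, FiniteField.pow_card]) hg
    · exact Or.inr ⟨hc, h3, h5⟩

include hperf

theorem linear_seven {K : Type} [Field K] [Fintype K] (h7 : Fintype.card K = 7)
    (e : Bar P ≃* Matrix.ProjectiveSpecialLinearGroup (Fin 2) K) :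
    Fintype.card F = p ∧ (p % 7 = 1 ∨ p % 7 = 2 ∨ p % 7 = 4) := by
  obtain ⟨t1, t2, t3⟩ := seven_traces p hle hperf h7 e
  rcases seven_mod (Fact.out : p.Prime) with h | h | h
  · exact absurd (t1 h) hreal
  · exact ⟨card_eq_of_traces p hK (t2 h), h⟩
  · exact (twist_false p hK hreal hU (t3 h)).elim

theorem linear_small {α : ℕ} (hp : p ≠ 2) (h : SmallType F p α (Bar P)) :
    (Nonempty (Bar P ≃* Matrix.ProjectiveSpecialLinearGroup (Fin 3) (ZMod 2)) ∧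
        Fintype.card F = p ∧ p ≠ 2 ∧ (p % 7 = 1 ∨ p % 7 = 2 ∨ p % 7 = 4)) ∨
    (Nonempty (Bar P ≃* alternatingGroup (Fin 6)) ∧
        ((Fintype.card F = p ∧ (p % 15 = 1 ∨ p % 15 = 4)) ∨
          (Fintype.card F = p ^ 2 ∧ p ≠ 3 ∧ (p % 5 = 2 ∨ p % 5 = 3)))) := by
  rcases h with ⟨K, _, _, β, hc, -, h3, ⟨e⟩⟩ | ⟨-, -, K, _, _, hc, ⟨e⟩⟩ | ⟨-, -, K, _, _, hc, ⟨e⟩⟩ |
    ⟨-, -, -, ⟨e⟩⟩ | ⟨h5, -, ⟨e⟩⟩
  · haveI : CharP K p := charP_of_card_eq_prime_pow (hc.trans rfl)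
    exact absurd (real_psl_two p hle hperf hp (hc ▸ h3) e) hreal
  · exact absurd (real_five hle hperf hc e) hreal
  · obtain ⟨f⟩ := psl_three_two hc
    obtain ⟨h1, h2⟩ := linear_seven p hle hK hreal hperf hU hc e
    exact Or.inl ⟨⟨e.trans f⟩, h1, hp, h2⟩
  · exact Or.inr ⟨⟨e⟩, linear_six p hle hK hreal hU e⟩
  · exact (twist_false p hK hreal hU (seven_alt p hle h5 e)).elim

end Linear

section Unitary

variable {q : ℕ} (hF : Fintype.card F = q ^ 2) (htw : ∀ g ∈ P, tr g ^ q = tr g⁻¹)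
include hF

include htw in
theorem unitary_six (e : Bar P ≃* alternatingGroup (Fin 6)) :
    q = p ∧ (q % 15 = 11 ∨ q % 15 = 14 ∨ q = 5) := by
  by_cases h3 : p = 3
  · exact absurd (six_real p hle h3 e) hreal
  rcases six_cases p hle h3 e with ⟨-, -, ht⟩ | ⟨h, h5, ht⟩ | ⟨h5, ht⟩
  · exact absurd (card_eq_of_traces p hK ht) (card_ne_of_sq p hF)
  · have hq := eq_of_traces p hF hK (sq_of_twist p ht)
    subst hq
    refine ⟨rfl, ?_⟩
    rcases h5 with h5 | h5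
    · exact Or.inr (Or.inr h5)
    · omega
  · have hq := eq_of_traces p hF hK ht
    obtain ⟨g, hgP, hgi, hg⟩ := six_five p hle e h5
    subst hq
    exact absurd ((htw g hgP).trans hgi) hg

include hperf in
theorem unitary_seven {K : Type} [Field K] [Fintype K] (h7 : Fintype.card K = 7)
    (e : Bar P ≃* Matrix.ProjectiveSpecialLinearGroup (Fin 2) K) :
    q = p ∧ (q % 7 = 3 ∨ q % 7 = 5 ∨ q % 7 = 6) := by
  obtain ⟨t1, t2, t3⟩ := seven_traces p hle hperf h7 e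
  rcases seven_mod (Fact.out : p.Prime) with h | h | h
  · exact absurd (t1 h) hreal
  · exact absurd (card_eq_of_traces p hK (t2 h)) (card_ne_of_sq p hF)
  · have hq := eq_of_traces p hF hK (sq_of_twist p (t3 h))
    exact ⟨hq, hq ▸ h⟩

include hperf htw in
theorem unitary_small {α : ℕ} (hp : p ≠ 2) (h : SmallType F p α (Bar P)) :
    q.Prime ∧ q = p ∧
    ((Nonempty (Bar P ≃* Matrix.ProjectiveSpecialLinearGroup (Fin 3) (ZMod 2)) ∧
        (q % 7 = 3 ∨ q % 7 = 5 ∨ q % 7 = 6)) ∨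
     (Nonempty (Bar P ≃* alternatingGroup (Fin 6)) ∧ (q % 15 = 11 ∨ q % 15 = 14 ∨ q = 5)) ∨
     (Nonempty (Bar P ≃* alternatingGroup (Fin 7)) ∧ q = 5)) := by
  suffices hh : q = p ∧ ((Nonempty (Bar P ≃* Matrix.ProjectiveSpecialLinearGroup (Fin 3) (ZMod 2)) ∧
        (q % 7 = 3 ∨ q % 7 = 5 ∨ q % 7 = 6)) ∨
     (Nonempty (Bar P ≃* alternatingGroup (Fin 6)) ∧ (q % 15 = 11 ∨ q % 15 = 14 ∨ q = 5)) ∨
     (Nonempty (Bar P ≃* alternatingGroup (Fin 7)) ∧ q = 5)) from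
    ⟨hh.1 ▸ (Fact.out : p.Prime), hh⟩
  rcases h with ⟨K, _, _, β, hc, -, h3, ⟨e⟩⟩ | ⟨-, -, K, _, _, hc, ⟨e⟩⟩ | ⟨-, -, K, _, _, hc, ⟨e⟩⟩ |
    ⟨-, -, -, ⟨e⟩⟩ | ⟨h5, -, ⟨e⟩⟩
  · haveI : CharP K p := charP_of_card_eq_prime_pow (hc.trans rfl)
    exact absurd (real_psl_two p hle hperf hp (hc ▸ h3) e) hreal
  · exact absurd (real_five hle hperf hc e) hreal
  · obtain ⟨f⟩ := psl_three_two hc
    obtain ⟨h1, h2⟩ := unitary_seven p hle hK hreal hperf hF hc e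
    exact ⟨h1, Or.inl ⟨⟨e.trans f⟩, h2⟩⟩
  · obtain ⟨h1, h2⟩ := unitary_six p hle hK hreal hF htw e
    exact ⟨h1, Or.inr (Or.inl ⟨⟨e⟩, h2⟩)⟩
  · have hq := eq_of_traces p hF hK (sq_of_twist p (seven_alt p hle h5 e))
    exact ⟨hq, Or.inr (Or.inr ⟨⟨e⟩, hq.trans h5⟩)⟩

end Unitary

end Cfsg.Agent.PSLThree.Rep
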