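import Mathlib

/-!
# Real elements of `PSL₂` over a finite field
-/

set_option autoImplicit false

namespace Cfsg.Agent.PSLThree.Rep.TwoClasses

open Matrix
open scoped MatrixGroups
open Polynomial (C X)

variable {K : Type*} [Field K]

local notation "PSL" => Matrix.ProjectiveSpecialLinearGroup (Fin 2) K

theorem det_eq (A : SL(2, K)) : A.1 0 0 * A.1 1 1 - A.1 0 1 * A.1 1 0 = 1 :=
  (Matrix.det_fin_two A.1).symm.trans A.2

/-- a quadratic in the two free coordinates of a reversing matrix -/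
theorem exists_param [Fintype K] (a b c d : K) (hdet : a * d - b * c = 1)
    (h : (a + d) ^ 2 ≠ 4 ∨ ∃ i : K, i * i = -1) :
    ∃ x y z : K, x * z - y * y = 1 ∧ (a - d) * y + c * z = b * x := by
  by_cases hi : ∃ i : K, i * i = -1
  · obtain ⟨i, hi⟩ := hi
    by_cases hb : b = 0
    · subst hb
      by_cases had : a - d = 0
      · exact ⟨0, i, 0, by rw [hi]; ring, by rw [had]; ring⟩
      · exact ⟨1 + (c / (a - d)) * (c / (a - d)), -(c / (a - d)), 1, by ring, by field_simp; ring⟩
    · exact ⟨(a - d) * i / b, i, 0, by rw [hi]; ring, by field_simp; ring⟩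
  · have ht : (a + d) ^ 2 ≠ 4 := h.resolve_right hi
    by_cases hb : b = 0
    · subst hb
      have had : a - d ≠ 0 := fun e => ht (by linear_combination 4 * hdet + (a - d) * e)
      exact ⟨1 + (c / (a - d)) * (c / (a - d)), -(c / (a - d)), 1, by ring, by field_simp; ring⟩
    · classical
      have h2 : (2 : K) ≠ 0 := fun e => hi ⟨1, by linear_combination e⟩
      have hodd : Fintype.card K % 2 = 1 := by
        refine FiniteField.odd_card_of_char_ne_two fun e => h2 ?_
        haveI : CharP K 2 := ringChar.of_eq e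
        exact_mod_cast CharP.cast_eq_zero K 2
      set e := ((a + d) ^ 2 - 4) / (4 * b) with he
      have h4 : (4 : K) * b ≠ 0 := mul_ne_zero (by
        rw [show (4 : K) = 2 * 2 by norm_num]; exact mul_ne_zero h2 h2) hb
      have he0 : e ≠ 0 := div_ne_zero (sub_ne_zero.2 ht) h4
      obtain ⟨u, z, huz⟩ := FiniteField.exists_root_sum_quadratic
        (f := C (-b) * X ^ 2 + C 0 * X + C (-b)) (g := C e * X ^ 2 + C 0 * X + C 0)
        (Polynomial.degree_quadratic (neg_ne_zero.2 hb)) (Polynomial.degree_quadratic he0) hodd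
      simp only [map_neg, map_zero, zero_mul, add_zero, neg_mul, Polynomial.eval_add, Polynomial.eval_neg,
        Polynomial.eval_mul, Polynomial.eval_C, Polynomial.eval_pow, Polynomial.eval_X] at huz
      refine ⟨((a - d) * (u + (a - d) * z / (2 * b)) + c * z) / b, u + (a - d) * z / (2 * b), z, ?_,
        by field_simp⟩
      have he' : e * (4 * b) = (a + d) ^ 2 - 4 := div_mul_cancel₀ _ h4
      field_simp
      linear_combination (4 * b) * huz - z ^ 2 * he' - 4 * z ^ 2 * hdet

/-- elements of `SL₂` with non-degenerate characteristic polynomial, or all when `-1` is a square, are real -/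
theorem exists_reverse [Fintype K] (A : SL(2, K))
    (h : (A.1 0 0 + A.1 1 1) ^ 2 ≠ 4 ∨ ∃ i : K, i * i = -1) : ∃ Y : SL(2, K), Y * A * Y⁻¹ = A⁻¹ := by
  obtain ⟨x, y, z, hd, hl⟩ := exists_param _ _ _ _ (det_eq A) h
  obtain ⟨Y, hY⟩ : ∃ Y : SL(2, K), Y.1 = !![y, z; -x, -y] :=
    ⟨⟨_, by rw [det_fin_two_of]; linear_combination hd⟩, rfl⟩
  refine ⟨Y, ?_⟩
  rw [mul_inv_eq_iff_eq_mul]
  refine Subtype.ext ?_
  rw [Matrix.SpecialLinearGroup.coe_mul, Matrix.SpecialLinearGroup.coe_mul, Matrix.SpecialLinearGroup.coe_inv,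
    adjugate_fin_two, hY]
  ext i j
  fin_cases i <;> fin_cases j <;> simp [Matrix.mul_apply, Fin.sum_univ_two] <;>
    first
    | linear_combination hl
    | linear_combination -hl
    | ring

theorem mk_eq_of_scalar {A B : SL(2, K)} {c : K} (h : A.1 = c • B.1) :
    (QuotientGroup.mk A : PSL) = QuotientGroup.mk B := by
  have hc : c ^ 2 = 1 := by
    have := congrArg Matrix.det h
    rw [A.2, det_smul, B.2, mul_one, Fintype.card_fin] at this
    exact this.symm
  rw [QuotientGroup.eq, Matrix.SpecialLinearGroup.mem_center_iff]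
  refine ⟨c, by rw [Fintype.card_fin, hc], ?_⟩
  rw [Matrix.SpecialLinearGroup.coe_mul, Matrix.SpecialLinearGroup.coe_inv, h, adjugate_smul, Fintype.card_fin,
    Matrix.smul_mul, adjugate_mul, B.2, one_smul, pow_one, Matrix.scalar_apply, smul_one_eq_diagonal]

theorem mk_eq_one_of_scalar {A : SL(2, K)} {c : K} (h : A.1 = c • 1) : (QuotientGroup.mk A : PSL) = 1 := by
  rw [mk_eq_of_scalar (B := 1) (by rw [h, Matrix.SpecialLinearGroup.coe_one]), QuotientGroup.mk_one]

theorem sq_eq (A : SL(2, K)) : A.1 * A.1 = (A.1 0 0 + A.1 1 1) • A.1 - 1 := by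
  have h := det_eq A
  ext i j
  fin_cases i <;> fin_cases j <;> simp [Matrix.mul_apply, Fin.sum_univ_two] <;>
    first
    | linear_combination h
    | linear_combination -h
    | ring

/-- unipotent elements modulo scalars have order `p` -/
theorem pow_char (p : ℕ) [Fact p.Prime] [CharP K p] (A : SL(2, K)) {c : K} (hc : A.1 0 0 + A.1 1 1 = c + c)
    (hc1 : c * c = 1) : (QuotientGroup.mk A : PSL) ^ p = 1 := by
  rw [← QuotientGroup.mk_pow]
  refine mk_eq_one_of_scalar (c := c ^ p) ?_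
  have hsq : (A.1 - c • 1) ^ 2 = 0 := by
    rw [pow_two, sub_mul, mul_sub, mul_sub, sq_eq, hc, Matrix.smul_mul, Matrix.mul_smul, Matrix.smul_mul,
      Matrix.mul_smul, one_mul, one_mul, mul_one, smul_smul, hc1, one_smul, add_smul]
    abel
  have h0 : (A.1 - c • 1) ^ p = 0 := pow_eq_zero_of_le (Fact.out : p.Prime).two_le hsq
  rw [sub_pow_char_of_commute p ((Commute.one_right A.1).smul_right c), smul_pow, one_pow, sub_eq_zero] at h0
  rw [Matrix.SpecialLinearGroup.coe_pow, h0]

theorem cases_of_sq {a d : K} (ht : (a + d) ^ 2 = 4) (h2 : (2 : K) ≠ 0) :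
    ∃ c : K, a + d = c + c ∧ c * c = 1 :=
  haveI : NeZero (2 : K) := ⟨h2⟩
  ⟨(a + d) / 2, (add_halves _).symm, by field_simp; linear_combination ht⟩

/-- every element is real, unipotent ones possibly excepted -/
theorem real_or_pow [Fintype K] (p : ℕ) [Fact p.Prime] [CharP K p] (x : PSL) :
    (∃ y, y * x * y⁻¹ = x⁻¹) ∨ x ^ p = 1 := by
  obtain ⟨A, rfl⟩ := QuotientGroup.mk_surjective x
  by_cases h : (A.1 0 0 + A.1 1 1) ^ 2 ≠ 4 ∨ ∃ i : K, i * i = -1
  · obtain ⟨Y, hY⟩ := exists_reverse A h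
    exact Or.inl ⟨QuotientGroup.mk Y, by
      rw [← QuotientGroup.mk_inv, ← QuotientGroup.mk_mul, ← QuotientGroup.mk_mul, hY]; rfl⟩
  · push Not at h
    obtain ⟨c, hc, hc1⟩ := cases_of_sq h.1 (fun e => h.2 1 (by linear_combination e))
    exact Or.inr (pow_char p A hc hc1)

/-- when `-1` is a square every element is real -/
theorem real_of_sqrt [Fintype K] {i : K} (hi : i * i = -1) (x : PSL) : ∃ y, y * x * y⁻¹ = x⁻¹ := by
  obtain ⟨A, rfl⟩ := QuotientGroup.mk_surjective x
  obtain ⟨Y, hY⟩ := exists_reverse A (Or.inr ⟨i, hi⟩)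
  exact ⟨QuotientGroup.mk Y, by
    rw [← QuotientGroup.mk_inv, ← QuotientGroup.mk_mul, ← QuotientGroup.mk_mul, hY]; rfl⟩

/-- unipotent elements are conjugate to their square when two is a square -/
theorem exists_square (A : SL(2, K)) {c s : K} (hs : s ≠ 0) (hs2 : s * s = 2)
    (hc : A.1 0 0 + A.1 1 1 = c + c) (hc1 : c * c = 1) :
    ∃ Y : SL(2, K), (Y * A * Y⁻¹).1 = c • (A * A).1 := by
  have hdet := det_eq A
  suffices ∃ Y : SL(2, K), Y.1 * A.1 = (c • (A * A).1) * Y.1 by
    obtain ⟨Y, hY⟩ := this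
    refine ⟨Y, ?_⟩
    have h : (Y * Y⁻¹).1 = 1 := by rw [mul_inv_cancel]; rfl
    rw [Matrix.SpecialLinearGroup.coe_mul] at h
    rw [Matrix.SpecialLinearGroup.coe_mul, Matrix.SpecialLinearGroup.coe_mul, hY, mul_assoc, h, mul_one]
  have hsq : c • (A * A).1 = (1 - s * s) • (c • (1 : Matrix (Fin 2) (Fin 2) K)) + (s * s) • A.1 := by
    rw [Matrix.SpecialLinearGroup.coe_mul, sq_eq, hc, smul_sub, smul_smul,
      show c * (c + c) = s * s by linear_combination 2 * hc1 - hs2,
      show (1 : K) - s * s = -1 by linear_combination -hs2]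
    module
  have hn : (A.1 0 0 - c) ^ 2 + A.1 0 1 * A.1 1 0 = 0 := by
    linear_combination hc1 - hdet + (A.1 0 0) * hc
  by_cases hb : A.1 0 1 = 0
  · have ha : A.1 0 0 = c := by
      rw [hb, zero_mul, add_zero] at hn
      exact sub_eq_zero.1 (pow_eq_zero_iff two_ne_zero |>.1 hn)
    refine ⟨⟨!![1 / s, 0; 0, s], by rw [det_fin_two_of]; field_simp; ring⟩, ?_⟩
    rw [hsq]
    have hd : A.1 1 1 = c := by linear_combination hc - ha
    ext i j
    fin_cases i <;> fin_cases j <;> simp [Matrix.mul_apply, Fin.sum_univ_two, hb, ha, hd] <;> field_simp <;> ring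
  · set w := (1 - s * s) * (A.1 0 0 - c) / (s * A.1 0 1) with hw
    refine ⟨⟨!![s, 0; w, 1 / s], by rw [det_fin_two_of]; field_simp; ring⟩, ?_⟩
    rw [hsq]
    have hd : A.1 1 1 = c + c - A.1 0 0 := by linear_combination hc
    ext i j
    fin_cases i <;> fin_cases j <;> simp [Matrix.mul_apply, Fin.sum_univ_two, hd, hw] <;> field_simp <;>
      first
      | linear_combination (1 - s ^ 4) * hn
      | linear_combination -(1 - s ^ 4) * hn
      | ring

/-- elements of `PSL₂(7)` -/
theorem seven_cases [Fintype K] (h7 : Fintype.card K = 7) (x : PSL) :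
    ((∃ y, y * x * y⁻¹ = x⁻¹) ∧ (x ^ 3 = 1 ∨ x ^ 4 = 1)) ∨ (x ^ 7 = 1 ∧ ∃ y, y * x * y⁻¹ = x ^ 2) := by
  haveI : Fact (Nat.Prime 7) := ⟨by norm_num⟩
  haveI : CharP K 7 := by
    obtain ⟨p, hp⟩ := CharP.exists K
    obtain ⟨n, hpp, hn⟩ := FiniteField.card K p
    have : p = 7 := ((Nat.prime_dvd_prime_iff_eq hpp (by norm_num)).1 (by
      rw [← h7, hn]; exact dvd_pow_self p n.ne_zero))
    rwa [← this]
  have h7K : (7 : K) = 0 := by exact_mod_cast CharP.cast_eq_zero K 7
  obtain ⟨A, rfl⟩ := QuotientGroup.mk_surjective x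
  set t := A.1 0 0 + A.1 1 1 with ht
  by_cases h4 : t ^ 2 = 4
  · have h2 : (2 : K) ≠ 0 := fun e => one_ne_zero (α := K) (by linear_combination h7K - 3 * e)
    obtain ⟨c, hc, hc1⟩ := cases_of_sq h4 h2
    refine Or.inr ⟨pow_char 7 A hc hc1, ?_⟩
    obtain ⟨Y, hY⟩ := exists_square A (s := 3) (fun e => h2 (by linear_combination 3 * e - h7K))
      (by linear_combination h7K) hc hc1
    refine ⟨QuotientGroup.mk Y, ?_⟩
    rw [← QuotientGroup.mk_inv, ← QuotientGroup.mk_mul, ← QuotientGroup.mk_mul, pow_two, ← QuotientGroup.mk_mul]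
    exact mk_eq_of_scalar hY
  · refine Or.inl ⟨?_, ?_⟩
    · obtain ⟨Y, hY⟩ := exists_reverse A (Or.inl h4)
      exact ⟨QuotientGroup.mk Y, by
        rw [← QuotientGroup.mk_inv, ← QuotientGroup.mk_mul, ← QuotientGroup.mk_mul, hY]; rfl⟩
    · have hroot : t * (t ^ 2 - 1) * (t ^ 2 - 4) * (t ^ 2 - 2) = 0 := by
        have hpow := FiniteField.pow_card t
        rw [h7] at hpow
        linear_combination hpow + (-(t ^ 5) + 2 * t ^ 3 - t) * h7K
      have h3 : t ^ 2 = 1 → (QuotientGroup.mk A : PSL) ^ 3 = 1 := fun e => by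
        rw [← QuotientGroup.mk_pow]
        refine mk_eq_one_of_scalar (c := -t) ?_
        rw [Matrix.SpecialLinearGroup.coe_pow, pow_succ, pow_two, sq_eq, ← ht, sub_mul, one_mul, Matrix.smul_mul,
          sq_eq, ← ht, smul_sub, smul_smul, ← pow_two, e, one_smul]
        module
      have h40 : t ^ 2 = 0 ∨ t ^ 2 = 2 → (QuotientGroup.mk A : PSL) ^ 4 = 1 := fun e => by
        rw [← QuotientGroup.mk_pow]
        refine mk_eq_one_of_scalar (c := 1 - t ^ 2) ?_
        rw [Matrix.SpecialLinearGroup.coe_pow, show 4 = 2 + 2 from rfl, pow_add, pow_two, sq_eq, ← ht, sub_mul,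
          one_mul, mul_sub, mul_one, Matrix.smul_mul, Matrix.mul_smul, sq_eq, ← ht, smul_smul, smul_sub, smul_smul]
        rcases e with e | e
        · rw [pow_eq_zero_iff two_ne_zero] at e; rw [e]; module
        · rw [ht] at e ⊢
          match_scalars <;>
            first
            | linear_combination (A.1 0 0 + A.1 1 1) * e
            | linear_combination -(A.1 0 0 + A.1 1 1) * e
            | ring
      rcases mul_eq_zero.1 hroot with h | h
      · rcases mul_eq_zero.1 h with h | h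
        · rcases mul_eq_zero.1 h with h | h
          · exact Or.inr (h40 (Or.inl (by rw [h]; ring)))
          · exact Or.inl (h3 (sub_eq_zero.1 h))
        · exact absurd (sub_eq_zero.1 h) h4
      · exact Or.inr (h40 (Or.inr (sub_eq_zero.1 h)))

end Cfsg.Agent.PSLThree.Rep.TwoClasses
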