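import Cfsg.Agent.Lib.PSLThree.Rep.Criteria
import Cfsg.Agent.Lib.PSLThree.Rep.TwoClasses
import Cfsg.Agent.Lib.PSLThree.Rep.AltClasses
import Cfsg.Agent.Lib.PSLThree.Rep.NoScalars
import Cfsg.Agent.Lib.PSLThree.Small.Eigen
import Cfsg.Agent.Lib.PSLThree.Small.Alt

/-!
# The small cores and the residual conditions on traces

For `Bar P` among `PSL₂(pᵝ)`, `PSL₂(5)`, `PSL₂(7)`, `A₆`, `A₇` the trace conditions of the residual classes
leave `PSL₂(7)` and `A₆` (and `A₇` in the unitary case) with the known congruences on the characteristic.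
-/

set_option autoImplicit false

namespace Cfsg.Agent.PSLThree.Rep

open Matrix
open Cfsg.Agent.PSLThree.Small (NoScalar noScalar_of_three)

variable {F : Type*} [Field F] [Fintype F] {P : Subgroup (GL (Fin 3) F)}

local notation "Fb" => AlgebraicClosure F

section Group

variable {B : Type*} [Group B]

theorem transport {N : Type*} [Group N] (e : B ≃* N) {x : B} {m : ℕ} {s : ℤ}
    (h : ∃ y, y * e x ^ m * y⁻¹ = e x ^ s) : ∃ y, y * x ^ m * y⁻¹ = x ^ s := by
  obtain ⟨y, hy⟩ := h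
  exact ⟨e.symm y, e.injective (by simpa using hy)⟩

/-- a real element has all powers to exponents congruent up to sign conjugate -/
theorem conj_pm {x : B} (hx : ∃ y, y * x * y⁻¹ = x⁻¹) {m : ℕ} {s : ℤ}
    (hn : (orderOf x : ℤ) ∣ (m : ℤ) - s ∨ (orderOf x : ℤ) ∣ (m : ℤ) + s) :
    ∃ y, y * x ^ m * y⁻¹ = x ^ s := by
  rcases hn with h | h
  · refine ⟨1, ?_⟩
    rw [one_mul, inv_one, mul_one, ← zpow_natCast, zpow_eq_zpow_iff_modEq]
    exact (Int.modEq_iff_dvd.2 h).symm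
  · obtain ⟨y, hy⟩ := hx
    refine ⟨y, ?_⟩
    rw [← conj_pow, hy, inv_pow, ← zpow_natCast, ← _root_.zpow_neg, zpow_eq_zpow_iff_modEq]
    exact Int.modEq_iff_dvd.2 (by simpa [sub_eq_add_neg, add_comm] using h)

theorem dvd_pm {p n : ℕ} (hp : p.Prime) (hpn : ¬ p ∣ n) (hn : n ∣ 3 ∨ n ∣ 4) :
    (n : ℤ) ∣ (p : ℤ) - 1 ∨ (n : ℤ) ∣ (p : ℤ) + 1 := by
  have hn4 : n ≤ 4 := by
    rcases hn with h | h <;> exact (Nat.le_of_dvd (by norm_num) h).trans (by norm_num)
  have h2 := hp.eq_two_or_odd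
  interval_cases n
  · simp at hn
  · simp
  · rcases h2 with rfl | h
    · simp at hpn
    · left; omega
  · have : p % 3 ≠ 0 := fun e => hpn (by
      rw [(Nat.prime_dvd_prime_iff_eq Nat.prime_three hp).1 (Nat.dvd_of_mod_eq_zero e)])
    omega
  · rcases h2 with rfl | h
    · simp at hpn
    · omega

theorem dvd_sign {a p : ℤ} {s : ℤ} (hs : s = 1 ∨ s = -1) (h : a ∣ p - 1 ∨ a ∣ p + 1) : a ∣ p - s ∨ a ∣ p + s := by
  rcases hs with rfl | rfl
  · exact h
  · rcases h with h | h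
    · exact Or.inr (by rwa [← sub_eq_add_neg])
    · exact Or.inl (by rwa [sub_neg_eq_add])

theorem conj_seven {x : B} (h7 : x ^ 7 = 1) (h : ∃ y, y * x * y⁻¹ = x ^ 2) {r : ℕ}
    (hr : r = 1 ∨ r = 2 ∨ r = 4) : ∃ z, z * x ^ r * z⁻¹ = x := by
  obtain ⟨y, hy⟩ := h
  rcases hr with rfl | rfl | rfl
  · exact ⟨1, by simp⟩
  · exact ⟨y⁻¹, by rw [← hy]; group⟩
  · exact ⟨y⁻¹ * y⁻¹, by
      have h2 : y * x ^ 2 * y⁻¹ = x ^ 4 := by rw [← conj_pow, hy, ← pow_mul]
      rw [← h2, ← hy]; group⟩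

end Group

section Two

variable (p : ℕ) [Fact p.Prime] [CharP F p] (hle : P ≤ Cfsg.Geo.specialLinear (Fin 3) F)
include hle

theorem all_real (hns : NoScalar P) (h : ∀ x : Bar P, ¬ p ∣ orderOf x → ∃ y, y * x * y⁻¹ = x⁻¹) :
    ∀ g ∈ P, tr g = tr g⁻¹ := fun g hg => by
  have := trace_rel hle p 0 (-1) (fun x hx => by simpa using h x hx) (Or.inl hns) g hg
  simpa using this

variable (hperf : ⁅P, P⁆ = P)
include hperf

/-- natural characteristic -/
theorem real_psl_two (hp : p ≠ 2) {K : Type} [Field K] [Fintype K] [CharP K p] (hK3 : Fintype.card K ≠ 3)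
    (e : Bar P ≃* Matrix.ProjectiveSpecialLinearGroup (Fin 2) K) : ∀ g ∈ P, tr g = tr g⁻¹ := by
  have hns : NoScalar P := by
    by_cases h3 : p = 3
    · subst h3; exact noScalar_of_three hle
    obtain ⟨n, hpp, hn⟩ := FiniteField.card K p
    have hodd : Odd (Fintype.card K) := hn ▸ (hpp.odd_of_ne_two hp).pow
    have h9 : Fintype.card K ≠ 9 := fun e9 => h3 ((Nat.prime_dvd_prime_iff_eq hpp Nat.prime_three).1
      (hpp.dvd_of_dvd_pow (n := 2) (by rw [show 3 ^ 2 = 9 from rfl, ← e9, hn]; exact dvd_pow_self p n.ne_zero)))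
    have := Fintype.one_lt_card (α := K)
    obtain ⟨k, hk⟩ := hodd
    exact noScalar_of_psl hle hperf (by omega) h9 e
  refine all_real p hle hns fun x hx => ?_
  rcases TwoClasses.real_or_pow p (e x) with ⟨y, hy⟩ | h
  · exact ⟨e.symm y, e.injective (by simpa using hy)⟩
  · have hd : orderOf x ∣ p := by rw [← MulEquiv.orderOf_eq e]; exact orderOf_dvd_of_pow_eq_one h
    rcases (Nat.dvd_prime (Fact.out : p.Prime)).1 hd with h1 | h1
    · exact ⟨1, by rw [orderOf_eq_one_iff.1 h1]; simp⟩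
    · exact absurd (dvd_of_eq h1.symm) hx

/-- the icosahedral group -/
theorem real_five {K : Type} [Field K] [Fintype K] (h5 : Fintype.card K = 5)
    (e : Bar P ≃* Matrix.ProjectiveSpecialLinearGroup (Fin 2) K) : ∀ g ∈ P, tr g = tr g⁻¹ := by
  obtain ⟨ℓ, hℓ⟩ := CharP.exists F
  haveI : Fact ℓ.Prime := ⟨CharP.char_is_prime F ℓ⟩
  refine all_real ℓ hle (noScalar_of_psl hle hperf (by omega) (by omega) e) fun x _ => ?_
  have h5K : (5 : K) = 0 := by
    have := Nat.cast_card_eq_zero K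
    rw [h5] at this
    exact_mod_cast this
  obtain ⟨y, hy⟩ := TwoClasses.real_of_sqrt (i := (2 : K)) (by linear_combination h5K) (e x)
  exact ⟨e.symm y, e.injective (by simpa using hy)⟩

/-- the group of order 168 -/
theorem seven_traces {K : Type} [Field K] [Fintype K] (h7 : Fintype.card K = 7)
    (e : Bar P ≃* Matrix.ProjectiveSpecialLinearGroup (Fin 2) K) :
    (p = 7 → ∀ g ∈ P, tr g = tr g⁻¹) ∧
    ((p % 7 = 1 ∨ p % 7 = 2 ∨ p % 7 = 4) → ∀ g ∈ P, tr g ^ p = tr g) ∧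
    ((p % 7 = 3 ∨ p % 7 = 5 ∨ p % 7 = 6) → ∀ g ∈ P, tr g ^ p = tr g⁻¹) := by
  have hpp := (Fact.out : p.Prime)
  have hns := noScalar_of_psl hle hperf (by omega) (by omega) e
  have hsmall : ∀ (x : Matrix.ProjectiveSpecialLinearGroup (Fin 2) K) {s : ℤ}, (s = 1 ∨ s = -1) →
      (∃ y, y * x * y⁻¹ = x⁻¹) → (x ^ 3 = 1 ∨ x ^ 4 = 1) → ¬ p ∣ orderOf x →
      ∃ y, y * x ^ p * y⁻¹ = x ^ s := fun x s hs hr hn hx =>
    conj_pm hr (dvd_sign hs (dvd_pm hpp hx (hn.imp orderOf_dvd_of_pow_eq_one orderOf_dvd_of_pow_eq_one)))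
  refine ⟨fun hp7 => all_real p hle hns fun x hx => ?_, fun hp g hg => ?_, fun hp g hg => ?_⟩
  · rcases TwoClasses.seven_cases h7 (e x) with ⟨⟨y, hy⟩, -⟩ | ⟨h, -⟩
    · exact ⟨e.symm y, e.injective (by simpa using hy)⟩
    · have hd : orderOf x ∣ 7 := by rw [← MulEquiv.orderOf_eq e]; exact orderOf_dvd_of_pow_eq_one h
      rcases (Nat.dvd_prime (by norm_num)).1 hd with h1 | h1
      · exact ⟨1, by rw [orderOf_eq_one_iff.1 h1]; simp⟩
      · exact absurd (dvd_of_eq (hp7.trans h1.symm)) hx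
  · have := trace_rel hle p 1 1 (fun x hx => transport e ?_) (Or.inl hns) g hg
    · simpa using this
    rw [pow_one, zpow_one]
    rw [← MulEquiv.orderOf_eq e] at hx
    rcases TwoClasses.seven_cases h7 (e x) with ⟨hr, hn⟩ | ⟨h, hy⟩
    · simpa using hsmall (e x) (Or.inl rfl) hr hn hx
    · rw [show e x ^ p = e x ^ (p % 7) from pow_eq_pow_mod p h]
      exact conj_seven h hy hp
  · have := trace_rel hle p 1 (-1) (fun x hx => transport e ?_) (Or.inl hns) g hg
    · simpa using this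
    rw [pow_one, _root_.zpow_neg_one]
    rw [← MulEquiv.orderOf_eq e] at hx
    rcases TwoClasses.seven_cases h7 (e x) with ⟨hr, hn⟩ | ⟨h, y, hy⟩
    · simpa using hsmall (e x) (Or.inr rfl) hr hn hx
    · obtain ⟨z, hz⟩ := conj_seven (x := (e x)⁻¹) (by rw [inv_pow, h, inv_one])
        ⟨y, by rw [inv_pow, ← hy]; group⟩ (r := 7 - p % 7) (by omega)
      refine ⟨z, ?_⟩
      have h2 : (e x)⁻¹ ^ (7 - p % 7) = e x ^ p := by
        rw [pow_eq_pow_mod p h, inv_pow, inv_eq_iff_mul_eq_one, ← pow_add,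
          show 7 - p % 7 + p % 7 = 7 by omega, h]
      rwa [h2] at hz

end Two

section Six

variable (p : ℕ) [Fact p.Prime] [CharP F p] (hle : P ≤ Cfsg.Geo.specialLinear (Fin 3) F)
include hle

theorem six_rel (e : Bar P ≃* alternatingGroup (Fin 6)) {j : ℕ} {s : ℤ} (hs : s = 1 ∨ s = -1)
    (h3 : (3 : ℤ) ∣ ((p ^ j : ℕ) : ℤ) - s)
    (h5 : p = 5 ∨ p ^ j % 5 = 1 ∨ p ^ j % 5 = 4) : ∀ g ∈ P, tr g ^ p ^ j = tr (g ^ s) := by
  refine trace_rel hle p j s (fun x hx => ?_) (Or.inr ⟨h3, fun x hx hn => ?_⟩)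
  · refine transport e (conj_pm (AltClasses.six (e x)).1 ?_)
    rw [MulEquiv.orderOf_eq e]
    rcases (AltClasses.six (e x)).2 with h | h | h <;>
      have hd := (MulEquiv.orderOf_eq e x) ▸ orderOf_dvd_of_pow_eq_one h
    · exact Or.inl ((Int.natCast_dvd_natCast.2 hd).trans h3)
    · refine dvd_sign hs ?_
      rcases eq_or_ne p 2 with rfl | hp2
      · rw [show orderOf x = 1 by
          obtain ⟨i, hi, e1⟩ := (Nat.dvd_prime_pow Nat.prime_two (m := 2)).1 (by simpa using hd)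
          interval_cases i <;> simp_all]
        simp
      · obtain ⟨k, hk⟩ := ((Fact.out : p.Prime).odd_of_ne_two hp2).pow (n := j)
        rcases Nat.even_or_odd k with ⟨l, hl⟩ | ⟨l, hl⟩
        · exact Or.inl ((Int.natCast_dvd_natCast.2 hd).trans ⟨l, by rw [hk, hl]; push_cast; ring⟩)
        · exact Or.inr ((Int.natCast_dvd_natCast.2 hd).trans ⟨l + 1, by rw [hk, hl]; push_cast; ring⟩)
    · refine dvd_sign hs ?_
      rcases h5 with rfl | h5
      · rcases (Nat.dvd_prime (by norm_num)).1 hd with h1 | h1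
        · simp [h1]
        · exact absurd (dvd_of_eq h1.symm) hx
      · refine (Or.imp ?_ ?_ h5) <;> intro h1 <;> refine (Int.natCast_dvd_natCast.2 hd).trans ?_ <;> omega
  · obtain ⟨⟨y, hy⟩, h⟩ := AltClasses.six (e x)
    refine ⟨?_, e.symm y, e.injective (by simpa using hy)⟩
    rcases h with h | h | h <;>
      have hd := (MulEquiv.orderOf_eq e x) ▸ orderOf_dvd_of_pow_eq_one h
    · exact (Int.natCast_dvd_natCast.2 hd).trans h3
    · exact absurd (hn.trans hd) (by norm_num)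
    · exact absurd (hn.trans hd) (by norm_num)

theorem six_real (hp : p = 3) (e : Bar P ≃* alternatingGroup (Fin 6)) : ∀ g ∈ P, tr g = tr g⁻¹ := by
  subst hp
  refine all_real 3 hle (noScalar_of_three hle) fun x _ => ?_
  obtain ⟨⟨y, hy⟩, -⟩ := AltClasses.six (e x)
  exact ⟨e.symm y, e.injective (by simpa using hy)⟩

/-- a real element of order five whose trace Frobenius moves -/
theorem six_five (e : Bar P ≃* alternatingGroup (Fin 6)) (hp : p % 5 = 2 ∨ p % 5 = 3) :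
    ∃ g ∈ P, tr g⁻¹ = tr g ∧ tr g ^ p ≠ tr g := by
  obtain ⟨-, -, -, x, k, -, -, -, -, -, -, -, -, -, hx, hx1, hk⟩ := Small.alt_six_elements
  have hF : ((5 : ℕ) : F) ≠ 0 := fun h => by
    have := (Nat.prime_dvd_prime_iff_eq (Fact.out : p.Prime) (by norm_num)).1 ((CharP.cast_eq_zero_iff F p 5).1 h)
    omega
  obtain ⟨g, hg, hg5, hge⟩ := exists_lift hle (n := 5) (by norm_num) (x := e.symm x) (by rw [← map_pow, hx, map_one])
  obtain ⟨c, hc, hce⟩ := exists_rep (e.symm k)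
  have hg1 : g ≠ 1 := fun h => hx1 (e.symm.injective (by
    rw [map_one, ← hge]; exact mk_eq_one.2 (h ▸ one_mem _)))
  have hconj : c * g * c⁻¹ = g⁻¹ := by
    refine conj_lift hle (n := 5) (by norm_num) hg (inv_mem hg) hc hg5 (by rw [inv_pow, hg5, inv_one]) ?_
    refine (mk_eq (hg := mul_mem (mul_mem hc hg) (inv_mem hc)) (hh := inv_mem hg)).1 ?_
    show ((⟨c, hc⟩ : P) : Bar P) * ((⟨g, hg⟩ : P) : Bar P) * ((⟨c, hc⟩ : P) : Bar P)⁻¹ = ((⟨g, hg⟩ : P) : Bar P)⁻¹
    rw [hce, hge, ← map_inv, ← map_inv, ← map_mul, ← map_mul, hk]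
  have htr : tr g⁻¹ = tr g := by rw [← hconj, tr_conj]
  refine ⟨g, hg, htr, fun hfix => ?_⟩
  obtain ⟨z, hz, hm⟩ := Small.eig_real (show Nat.Prime 5 by norm_num) (by norm_num) (det_eq_one hle hg) hF hg5 hg1
    (by rw [← hconj, eig_conj])
  have hs := sum_eig g
  rw [hm] at hs
  simp only [Multiset.insert_eq_cons, Multiset.sum_cons, Multiset.sum_singleton] at hs
  haveI : CharP Fb p := charP_of_injective_algebraMap (algebraMap F Fb).injective p
  have h2 := congrArg (algebraMap F Fb) hfix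
  rw [map_pow, ← hs, add_pow_char, add_pow_char, one_pow, inv_pow] at h2
  have hz5 : z ^ 5 = 1 := hz ▸ pow_orderOf_eq_one z
  have hz0 : z ≠ 0 := fun h => by simp [h] at hz5
  have hzp : z ^ p ≠ 0 := pow_ne_zero _ hz0
  have h3 : (z ^ p - z) * (z ^ p * z - 1) = 0 := by
    field_simp at h2
    linear_combination h2
  have hinj : ∀ {a b : ℕ}, z ^ a = z ^ b → a % 5 = b % 5 := fun {a b} h => by
    have := pow_eq_pow_iff_modEq.1 (show (Units.mk0 z hz0) ^ a = (Units.mk0 z hz0) ^ b from Units.ext (by simpa using h))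
    rwa [show orderOf (Units.mk0 z hz0) = 5 by rw [← orderOf_units, Units.val_mk0, hz]] at this
  rcases mul_eq_zero.1 h3 with h | h
  · have := hinj (b := 1) ((sub_eq_zero.1 h).trans (pow_one z).symm)
    omega
  · have := hinj (a := p + 1) (b := 0) (by rw [pow_succ, pow_zero]; exact sub_eq_zero.1 h)
    omega

theorem seven_alt (hp : p = 5) (e : Bar P ≃* alternatingGroup (Fin 7)) : ∀ g ∈ P, tr g ^ p = tr g⁻¹ := by
  subst hp
  intro g hg
  have key : ∀ x : Bar P, ¬ 5 ∣ orderOf x → (∃ y, y * x * y⁻¹ = x⁻¹) ∧ (orderOf x ∣ 6 ∨ orderOf x ∣ 4) ∨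
      (orderOf x ∣ 7 ∧ ∃ y, y * x ^ 5 * y⁻¹ = x⁻¹) := fun x hx => by
    rw [← MulEquiv.orderOf_eq e] at hx ⊢
    rcases AltClasses.seven (e x) with ⟨⟨y, hy⟩, h⟩ | ⟨h, y, hy⟩
    · refine Or.inl ⟨⟨e.symm y, e.injective (by simpa using hy)⟩, ?_⟩
      rcases h with h | h | h
      · exact Or.inl (orderOf_dvd_of_pow_eq_one h)
      · exact Or.inr (orderOf_dvd_of_pow_eq_one h)
      · rcases (Nat.dvd_prime (by norm_num)).1 (orderOf_dvd_of_pow_eq_one h) with h1 | h1
        · exact Or.inl (h1 ▸ one_dvd _)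
        · exact absurd (dvd_of_eq h1.symm) hx
    · exact Or.inr ⟨orderOf_dvd_of_pow_eq_one h, e.symm y, e.injective (by simpa using hy)⟩
  have := trace_rel hle 5 1 (-1) (fun x hx => ?_) (Or.inr ⟨by norm_num, fun x hx hn => ?_⟩) g hg
  · simpa using this
  · rcases key x hx with ⟨hr, h | h⟩ | ⟨-, y, hy⟩
    · exact conj_pm hr (Or.inl (by simpa using Int.natCast_dvd_natCast.2 h))
    · exact conj_pm hr (Or.inr (by simpa using Int.natCast_dvd_natCast.2 h))
    · exact ⟨y, by simpa using hy⟩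
  · rcases key x hx with ⟨hr, h | h⟩ | ⟨h, -⟩
    · exact ⟨by simpa using Int.natCast_dvd_natCast.2 h, hr⟩
    · exact absurd (hn.trans h) (by norm_num)
    · exact absurd (hn.trans h) (by norm_num)

end Six

end Cfsg.Agent.PSLThree.Rep
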