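import Mathlib
import Cfsg.Prelude.Def_GeometricClasses

/-!
# Absolutely irreducible matrix groups span all matrices; traces determine them up to conjugation

* `span_eq_top`: Burnside's theorem, from the density theorem.
* `exists_conj_of_trace`: two spanning representations with the same traces are conjugate.
-/

set_option autoImplicit false

namespace Cfsg.Agent.PSLThree.Rep

open Matrix
open Cfsg.Geo (matrixSet ActsAbsolutelyIrreducibly)

variable {F : Type*} [Field F] {ι : Type} [Fintype ι] [DecidableEq ι]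

/-- The matrix representation of a subgroup. -/
def incl (P : Subgroup (GL ι F)) : ↥P →* Matrix ι ι F := (Units.coeHom _).comp P.subtype

theorem range_incl (P : Subgroup (GL ι F)) : Set.range (incl P) = matrixSet P := by
  ext M
  constructor
  · rintro ⟨g, rfl⟩; exact ⟨g, g.2, rfl⟩
  · rintro ⟨g, hg, rfl⟩; exact ⟨⟨g, hg⟩, rfl⟩

theorem span_eq_top (P : Subgroup (GL ι F)) (h : ActsAbsolutelyIrreducibly (matrixSet P)) :
    Submodule.span F (matrixSet P) = ⊤ := by
  classical
  rcases isEmpty_or_nonempty ι with he | hne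
  · exact eq_top_iff.2 fun M _ => by rw [Subsingleton.elim M 0]; exact zero_mem _
  set A := Algebra.adjoin F (matrixSet P) with hA
  have hspan : Subalgebra.toSubmodule A = Submodule.span F (matrixSet P) := by
    rw [hA, Algebra.adjoin_eq_span, ← range_incl, ← MonoidHom.coe_mrange, Submonoid.closure_eq]
  letI : Module ↥A (ι → F) :=
    Module.compHom (ι → F) ((Matrix.toLinAlgEquiv' : Matrix ι ι F ≃ₐ[F] _).toAlgHom.comp A.val).toRingHom
  have hsmul : ∀ (a : ↥A) (v : ι → F), a • v = (a : Matrix ι ι F) *ᵥ v := fun a v => rfl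
  have hscal : ∀ c : F, ((algebraMap F ↥A c : ↥A) : Matrix ι ι F) = c • 1 := fun c => by
    rw [Subalgebra.coe_algebraMap, Algebra.algebraMap_eq_smul_one]
  haveI : IsSimpleModule ↥A (ι → F) := by
    haveI : Nontrivial (Submodule ↥A (ι → F)) :=
      ⟨⊥, ⊤, fun e => by
        obtain ⟨i⟩ := hne
        have hm : Pi.single i (1 : F) ∈ (⊥ : Submodule ↥A (ι → F)) := e ▸ Submodule.mem_top
        rw [Submodule.mem_bot] at hm
        simpa using congrFun hm i⟩
    refine { eq_bot_or_eq_top := fun W => ?_ }
    let W' : Submodule F (ι → F) :=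
      { carrier := W
        add_mem' := W.add_mem
        zero_mem' := W.zero_mem
        smul_mem' := fun c v hv => by
          have h1 := W.smul_mem (algebraMap F ↥A c) hv
          change ((algebraMap F ↥A c : ↥A) : Matrix ι ι F) *ᵥ v ∈ W at h1
          rwa [hscal, smul_mulVec, one_mulVec] at h1 }
    rcases h.1 W' (fun s hs => by
      rintro _ ⟨v, hv, rfl⟩
      have h1 := W.smul_mem (⟨s, Algebra.subset_adjoin hs⟩ : ↥A) hv
      rw [Matrix.toLin'_apply]
      exact h1) with hb | ht
    · exact Or.inl (Submodule.ext fun v => by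
        rw [Submodule.mem_bot, ← Submodule.mem_bot F, ← hb]; rfl)
    · exact Or.inr (Submodule.ext fun v => iff_of_true
        (show v ∈ W' by rw [ht]; trivial) Submodule.mem_top)
  have hend : ∀ f : Module.End ↥A (ι → F), ∃ c : F, ∀ v, f v = c • v := by
    intro f
    let g : (ι → F) →ₗ[F] (ι → F) :=
      { toFun := f
        map_add' := map_add f
        map_smul' := fun c v => by
          have h1 := f.map_smul (algebraMap F ↥A c) v
          change f (((algebraMap F ↥A c : ↥A) : Matrix ι ι F) *ᵥ v) =
            ((algebraMap F ↥A c : ↥A) : Matrix ι ι F) *ᵥ f v at h1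
          rwa [hscal, smul_mulVec, one_mulVec, smul_mulVec, one_mulVec] at h1 }
    obtain ⟨c, hc⟩ := h.2 (LinearMap.toMatrix' g) fun s hs => by
      refine Matrix.ext_iff_mulVec.2 fun v => ?_
      rw [← mulVec_mulVec, ← mulVec_mulVec, LinearMap.toMatrix'_mulVec, LinearMap.toMatrix'_mulVec]
      exact f.map_smul (⟨s, Algebra.subset_adjoin hs⟩ : ↥A) v
    refine ⟨c, fun v => ?_⟩
    rw [show f v = g v from rfl, ← LinearMap.toMatrix'_mulVec, hc, smul_mulVec, one_mulVec]
  rw [← hspan, eq_top_iff]
  intro M _
  let f : Module.End (Module.End ↥A (ι → F)) (ι → F) :=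
    { toFun := fun v => M *ᵥ v
      map_add' := fun u v => mulVec_add _ _ _
      map_smul' := fun e v => by
        obtain ⟨c, hc⟩ := hend e
        simp [hc, mulVec_smul] }
  obtain ⟨r, hr⟩ := jacobson_density f (Finset.univ.image fun i : ι => (Pi.single i 1 : ι → F))
  have e : M = (r : Matrix ι ι F) := Matrix.ext_of_mulVec_single fun i =>
    hr _ (Finset.mem_image.2 ⟨i, Finset.mem_univ i, rfl⟩)
  rw [e]
  exact r.2

theorem span_range_incl (P : Subgroup (GL ι F)) (h : ActsAbsolutelyIrreducibly (matrixSet P)) :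
    Submodule.span F (Set.range (incl P)) = ⊤ := by
  rw [range_incl]; exact span_eq_top P h

theorem eq_zero_of_trace {S : Set (Matrix ι ι F)} (hS : Submodule.span F S = ⊤) {M : Matrix ι ι F}
    (h : ∀ s ∈ S, Matrix.trace (M * s) = 0) : M = 0 := by
  refine Matrix.ext_iff_trace_mul_right.2 fun X => ?_
  have hX : X ∈ Submodule.span F S := by rw [hS]; trivial
  induction hX using Submodule.span_induction with
  | mem s hs => rw [h s hs, zero_mul, trace_zero]
  | zero => simp
  | add a b _ _ ha hb => rw [mul_add, trace_add, ha, hb, mul_add, trace_add]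
  | smul c a _ ha => rw [Matrix.mul_smul, trace_smul, ha, Matrix.mul_smul, trace_smul]

/-- Two spanning representations with the same traces are conjugate. -/
theorem exists_conj_of_trace {G : Type*} [Monoid G] (ρ ρ' : G →* Matrix ι ι F)
    (h : Submodule.span F (Set.range ρ) = ⊤) (h' : Submodule.span F (Set.range ρ') = ⊤)
    (ht : ∀ x, Matrix.trace (ρ x) = Matrix.trace (ρ' x)) :
    ∃ T : GL ι F, ∀ x, ρ' x = (T : Matrix ι ι F) * ρ x * ((T⁻¹ : GL ι F) : Matrix ι ι F) := by
  classical
  set L := Finsupp.linearCombination F ρ with hL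
  set L' := Finsupp.linearCombination F ρ' with hL'
  have hpair : ∀ (c : G →₀ F) (y : G), Matrix.trace (L' c * ρ' y) = Matrix.trace (L c * ρ y) := by
    intro c y
    induction c using Finsupp.induction_linear with
    | zero => simp
    | add a b ha hb => simp [add_mul, ha, hb]
    | single x a => simp [hL, hL', ← map_mul, ht]
  have hker : LinearMap.ker L = LinearMap.ker L' := by
    ext c
    rw [LinearMap.mem_ker, LinearMap.mem_ker]
    constructor
    · intro hc
      refine eq_zero_of_trace h' ?_
      rintro _ ⟨y, rfl⟩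
      rw [hpair, hc, zero_mul, trace_zero]
    · intro hc
      refine eq_zero_of_trace h ?_
      rintro _ ⟨y, rfl⟩
      rw [← hpair, hc, zero_mul, trace_zero]
  have hsurj : Function.Surjective L := by
    rw [← LinearMap.range_eq_top, hL, Finsupp.range_linearCombination, h]
  let Φ : Matrix ι ι F →ₗ[F] Matrix ι ι F :=
    ((LinearMap.ker L).liftQ L' hker.le).comp (L.quotKerEquivOfSurjective hsurj).symm.toLinearMap
  have hΦ : ∀ c, Φ (L c) = L' c := fun c => by
    simp only [Φ, LinearMap.comp_apply, LinearEquiv.coe_coe]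
    rw [show (L.quotKerEquivOfSurjective hsurj).symm (L c) = Submodule.Quotient.mk c from
      (LinearEquiv.symm_apply_eq _).2 rfl]
    rfl
  have hgen : ∀ x, Φ (ρ x) = ρ' x := fun x => by
    have := hΦ (Finsupp.single x 1)
    simpa [hL, hL'] using this
  have hone : Φ 1 = 1 := by simpa [map_one] using hgen 1
  have hmul : ∀ a b, Φ (a * b) = Φ a * Φ b := by
    intro a b
    obtain ⟨c, rfl⟩ := hsurj a
    obtain ⟨d, rfl⟩ := hsurj b
    induction c using Finsupp.induction_linear with
    | zero => simp
    | add u v hu hv => simp [add_mul, hu, hv]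
    | single x r =>
      induction d using Finsupp.induction_linear with
      | zero => simp
      | add u v hu hv => simp [mul_add, hu, hv]
      | single y s => simp [hL, hgen, ← map_mul]
  have hinj : Function.Injective Φ := by
    refine (injective_iff_map_eq_zero Φ).2 fun a ha => ?_
    obtain ⟨c, rfl⟩ := hsurj a
    rw [hΦ] at ha
    exact LinearMap.mem_ker.1 (hker ▸ LinearMap.mem_ker.2 ha)
  let Ψ : Matrix ι ι F ≃ₐ[F] Matrix ι ι F :=
    AlgEquiv.ofBijective (AlgHom.ofLinearMap Φ hone hmul) ⟨hinj, LinearMap.injective_iff_surjective.1 hinj⟩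
  let e : Matrix ι ι F ≃ₐ[F] Module.End F (ι → F) := Matrix.toLinAlgEquiv'
  obtain ⟨U, hU⟩ := ((e.symm.trans Ψ).trans e).eq_linearEquivConjAlgEquiv
  let T : GL ι F := ⟨LinearMap.toMatrix' U.toLinearMap, LinearMap.toMatrix' U.symm.toLinearMap,
    by rw [← LinearMap.toMatrix'_comp, LinearEquiv.comp_coe, LinearEquiv.symm_trans_self,
      LinearEquiv.refl_toLinearMap, LinearMap.toMatrix'_id],
    by rw [← LinearMap.toMatrix'_comp, LinearEquiv.comp_coe, LinearEquiv.self_trans_symm,
      LinearEquiv.refl_toLinearMap, LinearMap.toMatrix'_id]⟩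
  refine ⟨T, fun x => ?_⟩
  have h1 := congrArg (fun f : _ ≃ₐ[F] _ => f (e (ρ x))) hU
  simp only [AlgEquiv.trans_apply, AlgEquiv.symm_apply_apply, LinearEquiv.conjAlgEquiv_apply] at h1
  have h2 : Ψ (ρ x) = ρ' x := hgen x
  rw [h2] at h1
  have h3 := congrArg LinearMap.toMatrix' h1
  rw [LinearMap.toMatrix'_comp, LinearMap.toMatrix'_comp] at h3
  change ρ' x = LinearMap.toMatrix' U.toLinearMap * ρ x * LinearMap.toMatrix' U.symm.toLinearMap
  rw [mul_assoc]
  have he : ∀ M : Matrix ι ι F, LinearMap.toMatrix' (e M) = M := fun M => LinearMap.toMatrix'_toLin' M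
  rw [he, he] at h3
  exact h3

end Cfsg.Agent.PSLThree.Rep
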